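import Cfsg.Agent.MinDeg.WeightTools

/-!
Simultaneous eigenspaces of a family of one-parameter subgroups indexed by natural numbers.
-/

set_option autoImplicit false
set_option linter.style.haveILetI false
set_option linter.unusedSectionVars false

namespace CfsgLib.G2MinDeg

open Module CfsgLib.MinDeg

variable {G : Type*} [Group G] {F : Type*} [Field F] [Fintype F]
  {V : Type*} [AddCommGroup V] [Module ℂ V] [FiniteDimensional ℂ V]
  (ρ : Representation ℂ G V) (e : ℕ → Multiplicative F →* G) (ψ : AddChar F ℂ)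

/-- The eigenspace of one subgroup. -/
def eig (r : ℕ) (a : F) : Submodule ℂ V := weight ρ (e r) (ψ.mulShift a)

theorem mem_eig {r : ℕ} {a : F} {v : V} :
    v ∈ eig ρ e ψ r a ↔ ∀ u, ρ (e r (Multiplicative.ofAdd u)) v = ψ (a * u) • v := by
  simp only [eig, mem_weight, AddChar.mulShift_apply]

/-- The common eigenspace for a list of prescribed characters. -/
def wt : List (ℕ × F) → Submodule ℂ V
  | [] => ⊤
  | p :: L => eig ρ e ψ p.1 p.2 ⊓ wt L

theorem mem_wt {v : V} : ∀ {L : List (ℕ × F)},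
    v ∈ wt ρ e ψ L ↔ ∀ p ∈ L, v ∈ eig ρ e ψ p.1 p.2
  | [] => by simp [wt]
  | p :: L => by simp [wt, mem_wt (L := L)]

theorem wt_congr {L L' : List (ℕ × F)} (h : ∀ p, p ∈ L ↔ p ∈ L') :
    wt ρ e ψ L = wt ρ e ψ L' := by
  ext v
  simp only [mem_wt, h]

/-- Translating an eigenvector. -/
theorem translate {r : ℕ} {b : F} {g : G} {v : V} (y : F → G)
    (h : ∀ u, e r (Multiplicative.ofAdd u) * g = g * y u)
    (hy : ∀ u, ρ (y u) v = ψ (b * u) • v) : ρ g v ∈ eig ρ e ψ r b :=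
  (mem_eig ρ e ψ).2 fun u => eigen_translate ρ (h u) (hy u)

/-- A product of root elements acts on a common eigenvector by the product of the characters. -/
theorem prod_eigen {L : List (ℕ × F)} {v : V} (hv : v ∈ wt ρ e ψ L) : ∀ {M : List (ℕ × F × F)},
    (∀ p ∈ M, (p.1, p.2.1) ∈ L) →
    ρ (M.map fun p => e p.1 (Multiplicative.ofAdd p.2.2)).prod v =
      ψ (M.map fun p => p.2.1 * p.2.2).sum • v
  | [], _ => by simp
  | p :: M, h => by
    rw [List.map_cons, List.prod_cons, map_mul, Module.End.mul_apply,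
      prod_eigen hv (M := M) fun q hq => h q (List.mem_cons_of_mem _ hq), map_smul,
      (mem_eig ρ e ψ).1 ((mem_wt ρ e ψ).1 hv _ (h p (List.mem_cons_self ..))) p.2.2, smul_smul,
      List.map_cons, List.sum_cons, AddChar.map_add_eq_mul, mul_comm]

/-- The slices of an invariant common eigenspace fill it. -/
theorem sum_slices (hψ : ψ.IsPrimitive) {r : ℕ} {L : List (ℕ × F)}
    (hinv : ∀ t, ∀ v ∈ wt ρ e ψ L, ρ (e r (Multiplicative.ofAdd t)) v ∈ wt ρ e ψ L) :
    ∑ a : F, finrank ℂ (wt ρ e ψ ((r, a) :: L)) = finrank ℂ (wt ρ e ψ L) := by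
  classical
  set W := wt ρ e ψ L
  let R : Representation ℂ (Multiplicative F) W :=
    restrictHom (ρ.comp (e r)) W fun m => hinv m.toAdd
  have hb : Function.Bijective (AddChar.mulShift ψ) :=
    (Fintype.bijective_iff_injective_and_card _).2
      ⟨AddChar.to_mulShift_inj_of_isPrimitive hψ, AddChar.card_eq.symm⟩
  rw [← sum_finrank_weight R (MonoidHom.id _)]
  rw [← hb.sum_comp (g := fun χ => finrank ℂ (weight R (MonoidHom.id _) χ))]
  refine Finset.sum_congr rfl fun a _ => ?_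
  have hmap : (weight R (MonoidHom.id _) (ψ.mulShift a)).map W.subtype =
      wt ρ e ψ ((r, a) :: L) := by
    ext v
    constructor
    · rintro ⟨w, hw, rfl⟩
      exact ⟨fun u => congrArg Subtype.val (hw u), w.2⟩
    · rintro ⟨h1, h2⟩
      exact ⟨⟨v, h2⟩, fun u => Subtype.ext (h1 u), rfl⟩
  rw [← hmap]
  exact (LinearEquiv.finrank_eq (Submodule.equivMapOfInjective _ W.subtype_injective _)).symm

/-- Subspaces exchanged by an element and its inverse have the same dimension. -/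
theorem finrank_eq_of_maps {W W' : Submodule ℂ V} (g : G) (h : ∀ v ∈ W, ρ g v ∈ W')
    (h' : ∀ v ∈ W', ρ g⁻¹ v ∈ W) : finrank ℂ W = finrank ℂ W' := by
  have key : ∀ {g : G} {A B : Submodule ℂ V}, (∀ v ∈ A, ρ g v ∈ B) →
      finrank ℂ A ≤ finrank ℂ B := fun {g A B} hAB => by
    refine LinearMap.finrank_le_finrank_of_injective (f := (ρ g).restrict hAB) fun a b hab => ?_
    refine Subtype.ext ?_
    have := congrArg (fun z : B => ρ g⁻¹ (z : V)) hab
    simpa [LinearMap.restrict_apply, ← Module.End.mul_apply, ← map_mul] using this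
  exact le_antisymm (key h) (key h')

/-- Conjugation permuting the subgroups carries common eigenspaces to common eigenspaces. -/
theorem maps_wt_conj (g : G) (M : List (ℕ × ℕ × Fˣ × F))
    (h : ∀ p ∈ M, ∀ u, g * e p.1 (Multiplicative.ofAdd u) * g⁻¹ =
      e p.2.1 (Multiplicative.ofAdd ((p.2.2.1 : F) * u))) :
    (∀ v ∈ wt ρ e ψ (M.map fun p => (p.1, p.2.2.2 * (p.2.2.1 : F))),
      ρ g v ∈ wt ρ e ψ (M.map fun p => (p.2.1, p.2.2.2))) ∧
    (∀ v ∈ wt ρ e ψ (M.map fun p => (p.2.1, p.2.2.2)),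
      ρ g⁻¹ v ∈ wt ρ e ψ (M.map fun p => (p.1, p.2.2.2 * (p.2.2.1 : F)))) := by
  refine ⟨fun v hv => (mem_wt ρ e ψ).2 ?_, fun v hv => (mem_wt ρ e ψ).2 ?_⟩
  · simp only [List.mem_map]
    rintro _ ⟨p, hp, rfl⟩
    refine translate ρ e ψ (fun u => e p.1 (Multiplicative.ofAdd (((p.2.2.1⁻¹ : Fˣ) : F) * u)))
      (fun u => ?_) fun u => ?_
    · show e p.2.1 (Multiplicative.ofAdd u) * g = _
      have h' := mul_inv_eq_iff_eq_mul.mp (h p hp (((p.2.2.1⁻¹ : Fˣ) : F) * u))
      rw [Units.mul_inv_cancel_left] at h'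
      exact h'.symm
    · rw [(mem_eig ρ e ψ).1 ((mem_wt ρ e ψ).1 hv _ (List.mem_map_of_mem hp)), mul_assoc,
        Units.mul_inv_cancel_left]
  · simp only [List.mem_map]
    rintro _ ⟨p, hp, rfl⟩
    refine translate ρ e ψ (fun u => e p.2.1 (Multiplicative.ofAdd ((p.2.2.1 : F) * u)))
      (fun u => ?_) fun u => ?_
    · show e p.1 (Multiplicative.ofAdd u) * g⁻¹ = _
      rw [← h p hp u, mul_assoc g, inv_mul_cancel_left]
    · rw [(mem_eig ρ e ψ).1 ((mem_wt ρ e ψ).1 hv _ (List.mem_map_of_mem hp)), ← mul_assoc]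

/-- Conjugation permuting the subgroups permutes the common eigenspaces. -/
theorem finrank_wt_conj (g : G) (M : List (ℕ × ℕ × Fˣ × F))
    (h : ∀ p ∈ M, ∀ u, g * e p.1 (Multiplicative.ofAdd u) * g⁻¹ =
      e p.2.1 (Multiplicative.ofAdd ((p.2.2.1 : F) * u))) :
    finrank ℂ (wt ρ e ψ (M.map fun p => (p.1, p.2.2.2 * (p.2.2.1 : F)))) =
      finrank ℂ (wt ρ e ψ (M.map fun p => (p.2.1, p.2.2.2))) :=
  finrank_eq_of_maps ρ g (maps_wt_conj ρ e ψ g M h).1 (maps_wt_conj ρ e ψ g M h).2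

/-- The trivial eigenspace is the fixed space. -/
theorem mem_eig_zero {r : ℕ} {v : V} :
    v ∈ eig ρ e ψ r 0 ↔ ∀ u, ρ (e r (Multiplicative.ofAdd u)) v = v := by
  simp [mem_eig]

/-- A subgroup acting non-trivially has a non-trivial character. -/
theorem exists_eig_ne_zero (hψ : ψ.IsPrimitive) {r : ℕ} {u : F}
    (h : ρ (e r (Multiplicative.ofAdd u)) ≠ 1) :
    ∃ a : F, a ≠ 0 ∧ eig ρ e ψ r a ≠ ⊥ := by
  classical
  obtain ⟨χ, hχ, hw⟩ := exists_weight ρ (e r) h
  obtain ⟨a, ha, -⟩ := exists_mulShift hψ χ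
  have e1 : ψ.mulShift a = χ := by
    ext c
    rw [AddChar.mulShift_apply, ha, mul_comm]
  refine ⟨a, fun h0 => hχ ?_, by rwa [eig, e1]⟩
  rw [ha, h0, mul_zero, AddChar.map_zero_eq_one]

end CfsgLib.G2MinDeg
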