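import Cfsg.Agent.OreG2.Comm
import Cfsg.Agent.G2MinDeg.Slice
import Cfsg.Agent.Chev.TorusInvol
import Cfsg.Agent.S1055

/-!
Root elements, torus and Weyl elements of `G₂(q)` and the relations used in counting weights.
The positive roots are numbered `6 = b`, `7 = a`, `8 = a+b`, `9 = 2a+b`, `10 = 3a+b`,
`11 = 3a+2b`, with `a` short.
-/

set_option autoImplicit false
set_option linter.style.haveILetI false
set_option linter.unusedSectionVars false

namespace CfsgLib.G2MinDeg

open Cfsg.Lie CfsgLib.Chev CfsgLib.Chev.Tab CfsgLib.OreG2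
open scoped MatrixGroups

variable {F : Type*} [Field F]

/-- A root element in the group. -/
noncomputable def xg (r : ℕ) (t : F) : chevG2.group F :=
  ⟨good_G2.full.x r t, good_G2.x_mem_group r t⟩

theorem coe_xg (r : ℕ) (t : F) : (xg r t : GL chevG2.Idx F) = OreG2.X r t := rfl

theorem xg_add (r : ℕ) (t u : F) : xg r t * xg r u = xg r (t + u) :=
  Subtype.ext (X_add r t u)

theorem xg_zero (r : ℕ) : xg r (0 : F) = 1 := Subtype.ext (X_zero r)

theorem xg_inv (r : ℕ) (t : F) : (xg r t)⁻¹ = xg r (-t) := Subtype.ext (X_inv r t)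

/-- A root subgroup as a homomorphism. -/
noncomputable def eX (r : ℕ) : Multiplicative F →* chevG2.group F :=
  MonoidHom.mk' (fun t => xg r t.toAdd) fun a b => by rw [toAdd_mul, xg_add]

theorem eX_apply (r : ℕ) (t : F) : eX r (Multiplicative.ofAdd t) = xg r t := rfl

/-- A product of root elements. -/
noncomputable def xprod (M : List (ℕ × F)) : chevG2.group F :=
  (M.map fun p => xg p.1 p.2).prod

/-- The relation moving `x_r(t)` to the left past `x_s(u)`. -/
theorem xg_swap {r s : ℕ} (hr : r < 12) (hs : s < 12) (hne : s ≠ r) (hn : s ≠ negR chevG2 r)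
    (l : List (ℕ × ℤ × ℕ × ℕ)) (hl : G2Data.tab.commT r s = l) (t u : F) :
    xg s u * xg r t = xg r t *
      xprod ((s, u) :: l.map fun c => (c.1, (c.2.1 : F) * ((-t) ^ c.2.2.1 * u ^ c.2.2.2))) := by
  have h := X_conj hr hs hne hn l hl (-t) u
  have hinv : (OreG2.X r (-t) : GL chevG2.Idx F)⁻¹ = OreG2.X r t := by rw [X_inv, neg_neg]
  rw [hinv, mul_assoc, ← eq_inv_mul_iff_mul_eq, hinv] at h
  refine Subtype.ext (h.trans ?_)
  simp [xprod, xg, OreG2.X, List.map_map, Function.comp_def]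

theorem swap76 (t u : F) : xg 6 u * xg 7 t = xg 7 t *
    xprod [(6, u), (8, t * u), (9, t ^ 2 * u), (10, -(t ^ 3 * u)), (11, -(t ^ 3 * u ^ 2))] := by
  rw [xg_swap (r := 7) (s := 6) (by norm_num) (by norm_num) (by norm_num) (by decide +kernel)
    [(8, -1, 1, 1), (9, 1, 2, 1), (10, 1, 3, 1), (11, 1, 3, 2)] (by decide +kernel)]
  simp [show (-t) ^ 3 = -t ^ 3 by ring]

theorem swap78 (t u : F) : xg 8 u * xg 7 t = xg 7 t *
    xprod [(8, u), (9, 2 * (t * u)), (10, -(3 * (t ^ 2 * u))), (11, -(3 * (t * u ^ 2)))] := by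
  rw [xg_swap (r := 7) (s := 8) (by norm_num) (by norm_num) (by norm_num) (by decide +kernel)
    [(9, -2, 1, 1), (10, -3, 2, 1), (11, 3, 1, 2)] (by decide +kernel)]
  simp

theorem swap79 (t u : F) : xg 9 u * xg 7 t = xg 7 t *
    xprod [(9, u), (10, -(3 * (t * u)))] := by
  rw [xg_swap (r := 7) (s := 9) (by norm_num) (by norm_num) (by norm_num) (by decide +kernel)
    [(10, 3, 1, 1)] (by decide +kernel)]
  simp

theorem swap89 (t u : F) : xg 9 u * xg 8 t = xg 8 t *
    xprod [(9, u), (11, -(3 * (t * u)))] := by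
  rw [xg_swap (r := 8) (s := 9) (by norm_num) (by norm_num) (by norm_num) (by decide +kernel)
    [(11, 3, 1, 1)] (by decide +kernel)]
  simp

theorem swap98 (t u : F) : xg 8 u * xg 9 t = xg 9 t *
    xprod [(8, u), (11, 3 * (t * u))] := by
  rw [xg_swap (r := 9) (s := 8) (by norm_num) (by norm_num) (by norm_num) (by decide +kernel)
    [(11, -3, 1, 1)] (by decide +kernel)]
  simp

theorem swap97 (t u : F) : xg 7 u * xg 9 t = xg 9 t *
    xprod [(7, u), (10, 3 * (t * u))] := by
  rw [xg_swap (r := 9) (s := 7) (by norm_num) (by norm_num) (by norm_num) (by decide +kernel)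
    [(10, -3, 1, 1)] (by decide +kernel)]
  simp

theorem swap87 (t u : F) : xg 7 u * xg 8 t = xg 8 t *
    xprod [(7, u), (9, -(2 * (t * u))), (11, 3 * (t ^ 2 * u)), (10, 3 * (t * u ^ 2))] := by
  rw [xg_swap (r := 8) (s := 7) (by norm_num) (by norm_num) (by norm_num) (by decide +kernel)
    [(9, 2, 1, 1), (11, 3, 2, 1), (10, -3, 1, 2)] (by decide +kernel)]
  simp

theorem swap610 (t u : F) : xg 10 u * xg 6 t = xg 6 t *
    xprod [(10, u), (11, -(t * u))] := by
  rw [xg_swap (r := 6) (s := 10) (by norm_num) (by norm_num) (by norm_num) (by decide +kernel)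
    [(11, 1, 1, 1)] (by decide +kernel)]
  simp

theorem swap106 (t u : F) : xg 6 u * xg 10 t = xg 10 t *
    xprod [(6, u), (11, t * u)] := by
  rw [xg_swap (r := 10) (s := 6) (by norm_num) (by norm_num) (by norm_num) (by decide +kernel)
    [(11, -1, 1, 1)] (by decide +kernel)]
  simp

theorem swap67 (t u : F) : xg 7 u * xg 6 t = xg 6 t *
    xprod [(7, u), (8, -(t * u)), (9, -(t * u ^ 2)), (10, t * u ^ 3),
      (11, -(2 * (t ^ 2 * u ^ 3)))] := by
  rw [xg_swap (r := 6) (s := 7) (by norm_num) (by norm_num) (by norm_num) (by decide +kernel)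
    [(8, 1, 1, 1), (9, 1, 1, 2), (10, -1, 1, 3), (11, -2, 2, 3)] (by decide +kernel)]
  simp

/-- Positive root subgroups commuting in every characteristic. -/
def commPairs : List (ℕ × ℕ) :=
  [(6, 8), (8, 6), (6, 9), (9, 6), (6, 11), (11, 6), (7, 10), (10, 7), (7, 11), (11, 7),
    (8, 10), (10, 8), (8, 11), (11, 8), (9, 10), (10, 9), (9, 11), (11, 9), (10, 11), (11, 10)]

theorem chk_commPairs : commPairs.all (fun p => decide (p.1 < 12) && decide (p.2 < 12) &&
    decide (p.2 ≠ p.1) && decide (p.2 ≠ negR chevG2 p.1) &&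
    (G2Data.tab.commT p.1 p.2).isEmpty) = true := by decide +kernel

theorem swap_pair {r s : ℕ} (h : (r, s) ∈ commPairs) (t u : F) :
    xg s u * xg r t = xg r t * xprod [(s, u)] := by
  have := List.all_eq_true.mp chk_commPairs _ h
  simp only [Bool.and_eq_true, decide_eq_true_eq, List.isEmpty_iff] at this
  rw [xg_swap this.1.1.1.1 this.1.1.1.2 this.1.1.2 this.1.2 [] this.2]
  rfl

theorem swap_self (r : ℕ) (t u : F) : xg r u * xg r t = xg r t * xprod [(r, u)] := by
  simp [xprod, xg_add, add_comm]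

/-- A torus element of the group. -/
noncomputable def tor (l d : Fˣ) : chevG2.group F :=
  ⟨G2Data.tab.hT F (tc l d), OreG2.hT_mem _⟩

theorem tor_mul (l d l' d' : Fˣ) : tor l d * tor l' d' = tor (l * l') (d * d') :=
  Subtype.ext (by show G2Data.tab.hT F _ * G2Data.tab.hT F _ = _; rw [← map_mul, tc_mul]; rfl)

theorem tor_one : tor (1 : Fˣ) 1 = 1 := by
  refine Subtype.ext ?_
  show G2Data.tab.hT F _ = 1
  have : tc (1 : Fˣ) 1 = 1 := by funext i; simp [tc]
  rw [this, map_one]

/-- The six characters of the positive roots. -/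
def chiList : List (ℕ × ℤ × ℤ) :=
  [(6, -3, 2), (7, 2, -1), (8, -1, 1), (9, 1, 0), (10, 3, -1), (11, 0, 1)]

theorem tor_conj {s : ℕ} {a b : ℤ} (h : (s, a, b) ∈ chiList) (l d : Fˣ) (u : F) :
    tor l d * xg s u * (tor l d)⁻¹ = xg s (((l ^ a * d ^ b : Fˣ) : F) * u) := by
  have hs : s < chevG2.nroots := by
    revert h
    simp only [chiList, List.mem_cons, List.not_mem_nil, or_false, Prod.mk.injEq]
    rintro (⟨rfl, -⟩ | ⟨rfl, -⟩ | ⟨rfl, -⟩ | ⟨rfl, -⟩ | ⟨rfl, -⟩ | ⟨rfl, -⟩) <;> decide +kernel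
  refine Subtype.ext ?_
  show G2Data.tab.hT F _ * _ * (G2Data.tab.hT F _)⁻¹ = _
  rw [← chi_tc h l d]
  exact good_G2.full.hT_conj hs _ u

/-- A reflection in a fundamental root. -/
noncomputable def nF (i : Fin chevG2.rank) : chevG2.group F :=
  ⟨good_G2.full.ns F i, good_G2.ns_mem_group i⟩

/-- The action of the two reflections on the relevant roots, with signs. -/
def weylList : List (Fin 2 × ℕ × ℕ × ℤ) :=
  [(0, 6, 10, 1), (0, 10, 6, -1), (0, 8, 9, 1), (0, 9, 8, -1), (0, 11, 11, 1), (0, 7, 4, -1),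
    (1, 10, 11, 1), (1, 11, 10, -1), (1, 9, 9, 1), (1, 7, 8, 1), (1, 8, 7, -1), (1, 6, 5, -1)]

theorem chk_weyl : weylList.all (fun p => decide (p.2.1 < 12) &&
    decide (G2Data.tab.reflT p.1.val p.2.1 = p.2.2.1) &&
    decide (G2Data.tab.sgn p.1.val p.2.1 = p.2.2.2)) = true := by decide +kernel

theorem nF_conj {i : Fin chevG2.rank} {s s' : ℕ} {ε : ℤ} (h : (i, s, s', ε) ∈ weylList) (u : F) :
    nF i * xg s u * (nF i)⁻¹ = xg s' ((ε : F) * u) := by
  have := List.all_eq_true.mp chk_weyl _ h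
  simp only [Bool.and_eq_true, decide_eq_true_eq] at this
  refine Subtype.ext ?_
  have h2 := good_G2.full.ns_conj (F := F) (i := i.val) (s := s) i.isLt this.1.1 u
  rw [this.1.2, this.2] at h2
  exact h2

theorem nF_tor_a (l d : Fˣ) : nF ia * tor l d = tor (d * l⁻¹) d * nF ia := by
  refine Subtype.ext ((good_G2.ns_hT_eq (F := F) ia (tc l d)).trans ?_)
  rw [chi_a, single_ia, tc_mul, show l * (l ^ 2 * d⁻¹)⁻¹ = d * l⁻¹ by
    rw [mul_inv, inv_inv, pow_two, mul_inv, ← mul_assoc, ← mul_assoc, mul_inv_cancel, one_mul,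
      mul_comm], mul_one]
  rfl

theorem nF_tor_b (l d : Fˣ) : nF ib * tor l d = tor l (l ^ 3 * d⁻¹) * nF ib := by
  refine Subtype.ext ((good_G2.ns_hT_eq (F := F) ib (tc l d)).trans ?_)
  rw [chi_b, single_ib, tc_mul, show d * ((l ^ 3)⁻¹ * d ^ 2)⁻¹ = l ^ 3 * d⁻¹ by
    rw [mul_inv, inv_inv, pow_two, mul_inv, mul_left_comm, mul_inv_cancel_left], mul_one]
  rfl

theorem isSimple {F : Type*} [Field F] [Fintype F] (hF : 3 ≤ Fintype.card F) :
    IsSimpleGroup (chevG2.group F) := by
  classical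
  refine (Cfsg.Agent.S1055.result ?_).1
  by_contra h
  push Not at h
  have hsub : (Finset.univ : Finset F) ⊆ {0, 1} := fun a _ => by
    by_cases ha : a = 0 <;> simp [ha]
    exact h a ha
  have := Finset.card_le_card hsub
  rw [Finset.card_univ] at this
  have h2 : ({0, 1} : Finset F).card ≤ 2 := Finset.card_le_two
  omega

theorem finite_group [Fintype F] : Finite (chevG2.group F) := by
  haveI := OreG2.finite_GL (F := F)
  infer_instance

end CfsgLib.G2MinDeg
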