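import Cfsg.Agent.G2MinDeg.Basic
import Cfsg.Agent.Chev.G2Sections
import Cfsg.Agent.Chev.InvolStatements
import Cfsg.Agent.Chev.InvolData

/-!
The class of a torus element of order three in `G₂(q)` whose centraliser is of type `A₂`.
-/

set_option autoImplicit false
set_option linter.style.haveILetI false
set_option linter.unusedSectionVars false

namespace CfsgLib.G2MinDeg

open Cfsg.Lie CfsgLib.Chev CfsgLib.Chev.Tab CfsgLib.OreG2

/-- The images of the roots under a word. -/
def imgs (w : List (Fin chevG2.rank)) : List ℕ :=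
  (List.range 12).map fun s => G2Data.tab.wordT (w.map Fin.val) s

/-- The word respects the first coordinates of the weights modulo three. -/
def fixThree (w : List (Fin chevG2.rank)) : Bool :=
  (List.range 12).all fun s =>
    decide ((3 : ℤ) ∣ G2Data.tab.cart 0 (G2Data.tab.wordT (w.map Fin.val) s) - G2Data.tab.cart 0 s)

/-- The inverted roots fixed by the element. -/
def flipThree (w : List (Fin chevG2.rank)) : ℕ :=
  (List.range 12).countP fun s => decide (IsPos chevG2 s) &&
    !decide (IsPos chevG2 (G2Data.tab.wordT (w.map Fin.val) s)) &&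
    decide ((3 : ℤ) ∣ G2Data.tab.cart 0 s)

theorem imgs_nodup : (G2Sections.words.map imgs).Nodup := by decide +kernel

theorem three_data : (G2Sections.words.filter fixThree).map flipThree = [0, 1, 1, 2, 2, 3] ∧
    (List.range 12).countP (fun s => decide (IsPos chevG2 s) &&
      decide ((3 : ℤ) ∣ G2Data.tab.cart 0 s)) = 3 := by decide +kernel

theorem exists_word (L : List (Fin chevG2.rank)) :
    ∃ w ∈ G2Sections.words, good_G2.full.pw L = good_G2.full.pw w := by
  induction L with
  | nil => exact ⟨[], List.mem_cons_self .., rfl⟩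
  | cons i L ih =>
    obtain ⟨w, hw, e⟩ := ih
    obtain ⟨w', hw', e'⟩ := G2Sections.words_closed i w hw
    refine ⟨w', hw', Equiv.ext fun s => Fin.ext ?_⟩
    rw [good_G2.pw_cons, e, ← good_G2.pw_cons, good_G2.pw_apply, good_G2.pw_apply, e' s]

theorem imgs_eq (w : List (Fin chevG2.rank)) :
    imgs w = List.ofFn fun s : Fin 12 => (good_G2.full.pw w s).val := by
  refine List.ext_getElem (by simp [imgs]) fun i h h' => ?_
  simp only [imgs, List.getElem_map, List.getElem_range, List.getElem_ofFn]
  exact (good_G2.pw_apply w ⟨i, _⟩).symm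

theorem nroots_eq : chevG2.nroots = 12 := by decide +kernel

theorem card_filter_eq {p : ℕ → Bool} {q : Fin chevG2.nroots → Prop} [DecidablePred q]
    (h : ∀ s : Fin chevG2.nroots, q s ↔ p s.val = true) :
    (Finset.univ.filter q).card = (List.range 12).countP p := by
  rw [List.countP_eq_length_filter,
    ← List.toFinset_card_of_nodup (List.Nodup.filter _ List.nodup_range)]
  refine Finset.card_bij (fun s _ => s.val) (fun s hs => ?_) (fun a _ b _ e => Fin.ext e) fun b hb => ?_
  · simp only [List.mem_toFinset, List.mem_filter, List.mem_range]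
    exact ⟨lt_of_lt_of_eq s.isLt nroots_eq, (h s).mp (Finset.mem_filter.mp hs).2⟩
  · simp only [List.mem_toFinset, List.mem_filter, List.mem_range] at hb
    exact ⟨⟨b, lt_of_lt_of_eq hb.1 nroots_eq.symm⟩,
      Finset.mem_filter.mpr ⟨Finset.mem_univ _, (h _).mpr hb.2⟩, rfl⟩

variable {F : Type*} [Field F]

theorem zpow_eq_iff {w : Fˣ} (hw : orderOf w = 3) (a b : ℤ) : w ^ a = w ^ b ↔ (3 : ℤ) ∣ a - b := by
  rw [show (3 : ℤ) = ((orderOf w : ℕ) : ℤ) by rw [hw]; rfl, orderOf_dvd_iff_zpow_eq_one, zpow_sub,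
    mul_inv_eq_one]

theorem chi_three (w : Fˣ) (s : ℕ) :
    G2Data.tab.chi (F := F) s (tc w 1) = w ^ G2Data.tab.cart 0 s := by
  show ∏ i : Fin 2, tc w 1 i ^ G2Data.tab.cart i s = _
  rw [Fin.prod_univ_two]
  show w ^ G2Data.tab.cart 0 s * (1 : Fˣ) ^ G2Data.tab.cart 1 s = _
  rw [one_zpow, mul_one]

theorem chi_three_eq_one {w : Fˣ} (hw : orderOf w = 3) (s : ℕ) :
    G2Data.tab.chi (F := F) s (tc w 1) = 1 ↔ (3 : ℤ) ∣ G2Data.tab.cart 0 s := by
  rw [chi_three]
  simpa using zpow_eq_iff hw (G2Data.tab.cart 0 s) 0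

theorem cpoly_three {w : Fˣ} (hw : orderOf w = 3) (q : ℕ) :
    good_G2.full.cpoly (List.range chevG2.rank) (tc w 1) (tc w 1) q =
      1 + 2 * q + 2 * q ^ 2 + q ^ 3 := by
  classical
  have hpw : (G2Sections.words.map fun v => good_G2.full.pw v).Nodup := by
    have := imgs_nodup
    rw [show G2Sections.words.map imgs = (G2Sections.words.map fun v => good_G2.full.pw v).map
      (fun σ => List.ofFn fun s : Fin 12 => (σ s).val) by
        rw [List.map_map]; exact List.map_congr_left fun v _ => imgs_eq v] at this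
    exact this.of_map _
  have hset : Finset.univ.filter (fun σ : Equiv.Perm (Fin chevG2.nroots) =>
      σ ∈ good_G2.full.WJ (List.range chevG2.rank) ∧
        ∀ s : Fin chevG2.nroots, G2Data.tab.chi (F := F) (σ s).val (tc w 1) =
          G2Data.tab.chi s.val (tc w 1)) =
      ((G2Sections.words.filter fixThree).map fun v => good_G2.full.pw v).toFinset := by
    have hfix : ∀ v, fixThree v = true ↔ ∀ s : Fin chevG2.nroots,
        G2Data.tab.chi (F := F) (good_G2.full.pw v s).val (tc w 1) =
          G2Data.tab.chi s.val (tc w 1) := by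
      intro v
      simp only [fixThree, List.all_eq_true, decide_eq_true_eq, List.mem_range, chi_three,
        zpow_eq_iff hw, good_G2.pw_apply]
      exact ⟨fun h s => h s.val (lt_of_lt_of_eq s.isLt nroots_eq),
        fun h x hx => h ⟨x, lt_of_lt_of_eq hx nroots_eq.symm⟩⟩
    ext σ
    simp only [Finset.mem_filter, Finset.mem_univ, true_and, List.mem_toFinset, List.mem_map,
      List.mem_filter]
    constructor
    · rintro ⟨hσ, hc⟩
      obtain ⟨L, -, rfl⟩ := good_G2.exists_word_WJ hσ
      obtain ⟨v, hv, e⟩ := exists_word L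
      exact ⟨v, ⟨hv, (hfix v).mpr (e ▸ hc)⟩, e.symm⟩
    · rintro ⟨v, ⟨-, hf⟩, rfl⟩
      exact ⟨good_G2.pw_mem_full v, (hfix v).mp hf⟩
  rw [Full.cpoly, hset, List.sum_toFinset _
    (hpw.sublist (List.filter_sublist.map _)), List.map_map]
  rw [List.map_congr_left (g := fun v => q ^ flipThree v) fun v _ => ?_]
  · rw [show (fun v => q ^ flipThree v) = (fun e => q ^ e) ∘ flipThree from rfl, ← List.map_map,
      three_data.1]
    simp
    ring
  show q ^ _ = _
  congr 1
  rw [flipThree, ← card_filter_eq (q := fun s => (IsPos chevG2 s.val ∧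
    ¬IsPos chevG2 (good_G2.full.pw v s).val) ∧ (3 : ℤ) ∣ G2Data.tab.cart 0 s.val) fun s => by
      simp [good_G2.pw_apply]]
  congr 1
  ext s
  simp only [Finset.mem_filter, Finset.mem_univ, true_and, mem_inv, chi_three_eq_one hw]

theorem card_centralizer_three [Fintype F] {w : Fˣ} (hw : orderOf w = 3) :
    Nat.card (Subgroup.centralizer ({tor w 1} : Set (chevG2.group F))) =
      Fintype.card F ^ 3 * (Fintype.card F - 1) ^ 2 *
        (1 + 2 * Fintype.card F + 2 * Fintype.card F ^ 2 + Fintype.card F ^ 3) := by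
  classical
  rw [card_centralizer_subtype]
  refine (good_G2.card_cent InvolData.scG2 (tc w 1)).trans ?_
  have hP : Nat.card {s | IsPos chevG2 s ∧ G2Data.tab.chi (F := F) s (tc w 1) = 1} = 3 := by
    rw [← three_data.2, ← card_filter_eq (q := fun s => IsPos chevG2 s.val ∧
      (3 : ℤ) ∣ G2Data.tab.cart 0 s.val) fun s => by simp, ← Nat.card_eq_finsetCard]
    refine Nat.card_congr
      { toFun := fun s => ⟨⟨s.1, s.2.1.1⟩, Finset.mem_filter.mpr
          ⟨Finset.mem_univ _, s.2.1, (chi_three_eq_one hw _).mp s.2.2⟩⟩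
        invFun := fun s => ⟨s.1.val, (Finset.mem_filter.mp s.2).2.1,
          (chi_three_eq_one hw _).mpr (Finset.mem_filter.mp s.2).2.2⟩
        left_inv := fun s => rfl
        right_inv := fun s => rfl }
  rw [hP, cpoly_three hw, show chevG2.rank = 2 from rfl]

theorem index_three [Fintype F] {w : Fˣ} (hw : orderOf w = 3) :
    (Subgroup.centralizer ({tor w 1} : Set (chevG2.group F))).index =
      Fintype.card F ^ 3 * (Fintype.card F ^ 3 + 1) := by
  have h := (Subgroup.centralizer ({tor w 1} : Set (chevG2.group F))).card_mul_index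
  rw [card_centralizer_three hw, Cfsg.Agent.S1059.result rfl] at h
  have hq : 1 < Fintype.card F := Fintype.one_lt_card
  obtain ⟨r, hr⟩ : ∃ r, Fintype.card F = r + 2 := Nat.exists_eq_add_of_le' hq
  rw [hr] at h ⊢
  refine Nat.eq_of_mul_eq_mul_left (Nat.mul_pos (Nat.mul_pos (pow_pos (by omega) 3)
    (pow_pos (by omega) 2)) (by positivity)) (h.trans ?_)
  zify [Nat.one_le_pow 2 (r + 2) (by omega), Nat.one_le_pow 6 (r + 2) (by omega),
    show 1 ≤ r + 2 by omega]
  ring

end CfsgLib.G2MinDeg
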