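import Cfsg.Agent.G2MinDeg.Slice

/-!
The trace of an element on common eigenspaces, computed through the slices it fixes.
-/

set_option autoImplicit false
set_option linter.style.haveILetI false
set_option linter.unusedSectionVars false

namespace CfsgLib.G2MinDeg

open Module CfsgLib.MinDeg

variable {G : Type*} [Group G] {F : Type*} [Field F] [Fintype F]
  {V : Type*} [AddCommGroup V] [Module ℂ V] [FiniteDimensional ℂ V]
  (ρ : Representation ℂ G V) (e : ℕ → Multiplicative F →* G) (ψ : AddChar F ℂ)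

open scoped Classical in
/-- The trace of an element on an invariant common eigenspace, and zero otherwise. -/
noncomputable def tr (g : G) (L : List (ℕ × F)) : ℂ :=
  if h : ∀ v ∈ wt ρ e ψ L, ρ g v ∈ wt ρ e ψ L then
    LinearMap.trace ℂ (wt ρ e ψ L) ((ρ g).restrict h)
  else 0

theorem tr_of_inv {g : G} {L : List (ℕ × F)} (h : ∀ v ∈ wt ρ e ψ L, ρ g v ∈ wt ρ e ψ L) :
    tr ρ e ψ g L = LinearMap.trace ℂ (wt ρ e ψ L) ((ρ g).restrict h) := dif_pos h

theorem tr_nil (g : G) : tr ρ e ψ g [] = LinearMap.trace ℂ V (ρ g) := by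
  refine (tr_of_inv ρ e ψ (L := []) fun _ _ => Submodule.mem_top).trans ?_
  exact (LinearMap.trace_conj' _ (Submodule.topEquiv (R := ℂ) (M := V))).symm.trans rfl

theorem tr_eq_zero_of_finrank {g : G} {L : List (ℕ × F)} (h : finrank ℂ (wt ρ e ψ L) = 0) :
    tr ρ e ψ g L = 0 := by
  unfold tr
  split_ifs with hi
  · haveI : Subsingleton (wt ρ e ψ L) := Module.finrank_zero_iff.mp h
    rw [Subsingleton.elim ((ρ g).restrict hi) 0, map_zero]
  · rfl

/-- Conjugate elements have the same trace on corresponding eigenspaces. -/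
theorem tr_conj {g g' : G} (y : G) (hy : y * g = g' * y) {L L' : List (ℕ × F)}
    (hm : ∀ v ∈ wt ρ e ψ L, ρ y v ∈ wt ρ e ψ L') (hm' : ∀ v ∈ wt ρ e ψ L', ρ y⁻¹ v ∈ wt ρ e ψ L)
    (hg : ∀ v ∈ wt ρ e ψ L, ρ g v ∈ wt ρ e ψ L) : tr ρ e ψ g' L' = tr ρ e ψ g L := by
  have hc : ∀ a b : G, ∀ v, ρ a (ρ b v) = ρ (a * b) v := fun a b v => by
    rw [map_mul, Module.End.mul_apply]
  have hg' : ∀ v ∈ wt ρ e ψ L', ρ g' v ∈ wt ρ e ψ L' := fun v hv => by
    have := hm _ (hg _ (hm' v hv))
    rwa [hc, hc, hy, mul_inv_cancel_right] at this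
  let E : wt ρ e ψ L ≃ₗ[ℂ] wt ρ e ψ L' :=
    LinearEquiv.ofLinearMap ((ρ y).restrict hm) ((ρ y⁻¹).restrict hm')
      (LinearMap.ext fun v => Subtype.ext (by
        show ρ y (ρ y⁻¹ (v : V)) = v
        rw [hc, mul_inv_cancel, map_one, Module.End.one_apply]))
      (LinearMap.ext fun v => Subtype.ext (by
        show ρ y⁻¹ (ρ y (v : V)) = v
        rw [hc, inv_mul_cancel, map_one, Module.End.one_apply]))
  rw [tr_of_inv ρ e ψ hg, tr_of_inv ρ e ψ hg', ← LinearMap.trace_conj' ((ρ g).restrict hg) E]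
  refine congrArg _ (LinearMap.ext fun v => Subtype.ext ?_)
  show ρ g' (v : V) = ρ y (ρ g (ρ y⁻¹ (v : V)))
  rw [hc, hc, hy, mul_inv_cancel_right]

/-- The trace is the sum over the slices fixed by the element. -/
theorem tr_slices [DecidableEq F] (hψ : ψ.IsPrimitive) {r : ℕ} {L : List (ℕ × F)} {g : G} (u : Fˣ)
    (hconj : ∀ x, g * e r (Multiplicative.ofAdd x) * g⁻¹ =
      e r (Multiplicative.ofAdd ((u : F) * x)))
    (hinv : ∀ t, ∀ v ∈ wt ρ e ψ L, ρ (e r (Multiplicative.ofAdd t)) v ∈ wt ρ e ψ L)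
    (hg : ∀ v ∈ wt ρ e ψ L, ρ g v ∈ wt ρ e ψ L) :
    tr ρ e ψ g L =
      ∑ a ∈ Finset.univ.filter (fun a : F => a * ((u⁻¹ : Fˣ) : F) = a),
        tr ρ e ψ g ((r, a) :: L) := by
  classical
  set W := wt ρ e ψ L
  let R : Representation ℂ (Multiplicative F) W :=
    restrictHom (ρ.comp (e r)) W fun m => hinv m.toAdd
  let T : Module.End ℂ W := (ρ g).restrict hg
  let P : F → Module.End ℂ W := fun a => proj R (MonoidHom.id _) (ψ.mulShift a)
  have hb : Function.Bijective (AddChar.mulShift ψ) :=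
    (Fintype.bijective_iff_injective_and_card _).2
      ⟨AddChar.to_mulShift_inj_of_isPrimitive hψ, AddChar.card_eq.symm⟩
  have hmem : ∀ {a : F} {w : W},
      w ∈ weight R (MonoidHom.id _) (ψ.mulShift a) ↔ (w : V) ∈ eig ρ e ψ r a := fun {a w} =>
    ⟨fun h x => congrArg Subtype.val (h x), fun h x => Subtype.ext (h x)⟩
  have hP : ∀ a w, P a w ∈ weight R (MonoidHom.id _) (ψ.mulShift a) := fun a w =>
    proj_mem R (MonoidHom.id _) _ w
  have hTP : ∀ a w, T (P a w) ∈ weight R (MonoidHom.id _) (ψ.mulShift (a * ((u⁻¹ : Fˣ) : F))) :=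
    fun a w => by
      rw [hmem]
      refine translate ρ e ψ (fun x => e r (Multiplicative.ofAdd (((u⁻¹ : Fˣ) : F) * x)))
        (fun x => ?_) fun x => ?_
      · have h' := mul_inv_eq_iff_eq_mul.mp (hconj (((u⁻¹ : Fˣ) : F) * x))
        rw [Units.mul_inv_cancel_left] at h'
        exact h'.symm
      · exact ((mem_eig ρ e ψ).1 (hmem.1 (hP a w)) _).trans (by rw [mul_assoc]; rfl)
  have hsum : T = ∑ a, T * P a := LinearMap.ext fun w => by
    rw [LinearMap.sum_apply]
    conv_lhs => rw [← sum_proj R (MonoidHom.id _) w,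
      ← hb.sum_comp (g := fun χ => proj R (MonoidHom.id _) χ w)]
    rw [map_sum]
    rfl
  rw [tr_of_inv ρ e ψ hg, show (ρ g).restrict hg = T from rfl, hsum, map_sum, Finset.sum_filter]
  refine Finset.sum_congr rfl fun a _ => ?_
  by_cases ha : a * ((u⁻¹ : Fˣ) : F) = a
  · rw [if_pos ha]
    let S : Submodule ℂ W := (wt ρ e ψ ((r, a) :: L)).comap W.subtype
    have hS : ∀ w : W, w ∈ weight R (MonoidHom.id _) (ψ.mulShift a) → w ∈ S := fun w hw =>
      ⟨hmem.1 hw, w.2⟩
    have hS' : ∀ w : W, w ∈ S → w ∈ weight R (MonoidHom.id _) (ψ.mulShift a) := fun w hw =>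
      hmem.2 hw.1
    have hf : ∀ w, (T * P a) w ∈ S := fun w => hS _ (by have := hTP a w; rwa [ha] at this)
    have hgS : ∀ v ∈ wt ρ e ψ ((r, a) :: L), ρ g v ∈ wt ρ e ψ ((r, a) :: L) := fun v hv => by
      have hvW : v ∈ W := hv.2
      have h1 : P a ⟨v, hvW⟩ = ⟨v, hvW⟩ := by
        show proj R (MonoidHom.id _) (ψ.mulShift a) _ = _
        rw [proj_of_mem R (MonoidHom.id _) (χ' := ψ.mulShift a) (hmem.2 hv.1), if_pos rfl]
      have h2 := hf ⟨v, hvW⟩
      rw [Module.End.mul_apply, h1] at h2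
      exact h2
    rw [← LinearMap.trace_restrict_eq_of_forall_mem S (T * P a) hf (fun w _ => hf w),
      tr_of_inv ρ e ψ hgS,
      ← LinearMap.trace_conj' ((T * P a).restrict fun w _ => hf w)
        (Submodule.comapSubtypeEquivOfLe (show wt ρ e ψ ((r, a) :: L) ≤ W from inf_le_right))]
    refine congrArg _ (LinearMap.ext fun v => Subtype.ext ?_)
    show ((T (P a ⟨(v : V), v.2.2⟩) : W) : V) = ρ g (v : V)
    rw [show P a ⟨(v : V), v.2.2⟩ = ⟨(v : V), v.2.2⟩ from by
      show proj R (MonoidHom.id _) (ψ.mulShift a) _ = _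
      rw [proj_of_mem R (MonoidHom.id _) (χ' := ψ.mulShift a) (hmem.2 v.2.1), if_pos rfl]]
    rfl
  · rw [if_neg ha]
    have hPP : P a * P a = P a := LinearMap.ext fun w => by
      show proj R (MonoidHom.id _) (ψ.mulShift a) (P a w) = P a w
      rw [proj_of_mem R (MonoidHom.id _) (hP a w), if_pos rfl]
    rw [← hPP, ← mul_assoc, LinearMap.trace_mul_comm]
    have h0 : P a * (T * P a) = 0 := LinearMap.ext fun w => by
      show proj R (MonoidHom.id _) (ψ.mulShift a) (T (P a w)) = 0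
      rw [proj_of_mem R (MonoidHom.id _) (hTP a w),
        if_neg fun h => ha (hb.injective h)]
    rw [h0, map_zero]

/-- On a line an element of finite order acts by a root of unity, the inverse by its inverse. -/
theorem exists_scalar {g : G} {n : ℕ} (hn : g ^ n = 1) {L : List (ℕ × F)}
    (h1 : finrank ℂ (wt ρ e ψ L) = 1) (hg : ∀ v ∈ wt ρ e ψ L, ρ g v ∈ wt ρ e ψ L) :
    ∃ s : ℂ, s ^ n = 1 ∧ ∀ m : ℕ, tr ρ e ψ (g ^ m) L = s ^ m := by
  set W := wt ρ e ψ L
  haveI : Nontrivial W := Module.nontrivial_of_finrank_pos (R := ℂ) (by omega)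
  obtain ⟨w, hw⟩ := exists_ne (0 : W)
  obtain ⟨s, hs⟩ := exists_smul_eq_of_finrank_eq_one h1 hw ((ρ g).restrict hg w)
  have hs' : ρ g (w : V) = s • (w : V) := (congrArg Subtype.val hs).symm
  have hall : ∀ (m : ℕ) (v : V), v ∈ W → ρ (g ^ m) v = s ^ m • v := by
    intro m v hv
    obtain ⟨c, hc⟩ := exists_smul_eq_of_finrank_eq_one h1 hw ⟨v, hv⟩
    have hv' : v = c • (w : V) := (congrArg Subtype.val hc).symm
    induction m with
    | zero => simp
    | succ m ih =>
      rw [pow_succ', map_mul, Module.End.mul_apply, ih, map_smul, hv', map_smul, hs', smul_smul,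
        smul_smul, smul_smul, pow_succ]
      congr 1
      ring
  refine ⟨s, ?_, fun m => ?_⟩
  · have := hall n _ w.2
    rw [hn, map_one, Module.End.one_apply] at this
    have hw0 : (w : V) ≠ 0 := fun h => hw (Subtype.ext h)
    by_contra hne
    exact hw0 ((smul_eq_zero.mp (show (s ^ n - 1) • (w : V) = 0 by
      rw [sub_smul, one_smul, ← this, sub_self])).resolve_left (sub_ne_zero.mpr hne))
  · have hi : ∀ v ∈ W, ρ (g ^ m) v ∈ W := fun v hv => by
      rw [hall m v hv]; exact W.smul_mem _ hv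
    rw [tr_of_inv ρ e ψ hi, show (ρ (g ^ m)).restrict hi = s ^ m • 1 from
      LinearMap.ext fun v => Subtype.ext (hall m v v.2), map_smul, LinearMap.trace_one, h1]
    simp

end CfsgLib.G2MinDeg
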