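import Cfsg.Agent.G2MinDeg.Coprime
import Cfsg.Agent.G2MinDeg.Trace
import Cfsg.Agent.G2MinDeg.CentThree
import Cfsg.Agent.Char.Central

/-!
For `q ≡ 1` modulo three the degree `q³ - 1` does not occur.
-/

set_option autoImplicit false
set_option linter.style.haveILetI false
set_option linter.unusedSectionVars false

namespace CfsgLib.G2MinDeg

open Module Cfsg.Lie CfsgLib.MinDeg

variable {F : Type*} [Field F] [Fintype F] {V : Type*} [AddCommGroup V] [Module ℂ V]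
  [FiniteDimensional ℂ V] (ρ : Representation ℂ (chevG2.group F) V) (ψ : AddChar F ℂ)

/-- The trace of a torus element on a common eigenspace. -/
noncomputable abbrev trW (g : chevG2.group F) (L : List (ℕ × F)) : ℂ := tr ρ eX ψ g L

/-- Carrying eigenspaces by a torus element. -/
theorem maps_tor (l d : Fˣ) (M : List (ℕ × ℤ × ℤ × F))
    (h : ∀ p ∈ M, (p.1, p.2.1, p.2.2.1) ∈ chiList) :
    (∀ v ∈ W ρ ψ (M.map fun p => (p.1, p.2.2.2 * ((l ^ p.2.1 * d ^ p.2.2.1 : Fˣ) : F))),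
      ρ (tor l d) v ∈ W ρ ψ (M.map fun p => (p.1, p.2.2.2))) ∧
    (∀ v ∈ W ρ ψ (M.map fun p => (p.1, p.2.2.2)),
      ρ (tor l d)⁻¹ v ∈ W ρ ψ (M.map fun p => (p.1, p.2.2.2 * ((l ^ p.2.1 * d ^ p.2.2.1 : Fˣ) : F)))) := by
  have := maps_wt_conj ρ eX ψ (tor l d)
    (M.map fun p => (p.1, p.1, l ^ p.2.1 * d ^ p.2.2.1, p.2.2.2)) (by
      simp only [List.mem_map]
      rintro _ ⟨p, hp, rfl⟩ u
      exact tor_conj (h p hp) l d u)
  rw [List.map_map, List.map_map] at this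
  exact this

theorem tor_comm (l d l' d' : Fˣ) : tor l d * tor l' d' = tor l' d' * tor l d := by
  rw [tor_mul, tor_mul, mul_comm l, mul_comm d]

theorem xg_comm {r : ℕ} {a b : ℤ} (hm : (r, a, b) ∈ chiList) {l d : Fˣ} (h1 : l ^ a * d ^ b = 1)
    (t : F) : xg r t * tor l d = tor l d * xg r t := by
  have h := tor_conj hm l d t
  rw [h1, Units.val_one, one_mul, mul_inv_eq_iff_eq_mul] at h
  exact h.symm

theorem tor_inv_W (l d : Fˣ) (M : List (ℕ × ℤ × ℤ × F))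
    (h : ∀ p ∈ M, (p.1, p.2.1, p.2.2.1) ∈ chiList)
    (hfix : ∀ p ∈ M, p.2.2.2 * ((l ^ p.2.1 * d ^ p.2.2.1 : Fˣ) : F) = p.2.2.2) :
    ∀ v ∈ W ρ ψ (M.map fun p => (p.1, p.2.2.2)),
      ρ (tor l d) v ∈ W ρ ψ (M.map fun p => (p.1, p.2.2.2)) := by
  have := (maps_tor ρ ψ l d M h).1
  rwa [List.map_congr_left (g := fun p => (p.1, p.2.2.2)) fun p hp => by rw [hfix p hp]] at this

theorem tr_fixed (hψ : ψ.IsPrimitive) {r : ℕ} {a b : ℤ} {l d : Fˣ} (hm : (r, a, b) ∈ chiList)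
    (h1 : l ^ a * d ^ b = 1) {L : List (ℕ × F)}
    (hinv : ∀ t, ∀ v ∈ W ρ ψ L, ρ (xg r t) v ∈ W ρ ψ L)
    (hg : ∀ v ∈ W ρ ψ L, ρ (tor l d) v ∈ W ρ ψ L) :
    trW ρ ψ (tor l d) L = ∑ x : F, trW ρ ψ (tor l d) ((r, x) :: L) := by
  classical
  rw [trW, tr_slices ρ eX ψ hψ (r := r) (l ^ a * d ^ b) (fun x => tor_conj hm l d x)
    (fun t v hv => hinv t v hv) hg]
  refine Finset.sum_congr (Finset.filter_true_of_mem fun x _ => ?_) fun _ _ => rfl
  rw [h1, inv_one, Units.val_one, mul_one]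

theorem tr_moved (hψ : ψ.IsPrimitive) {r : ℕ} {a b : ℤ} {l d : Fˣ} (hm : (r, a, b) ∈ chiList)
    (h1 : l ^ a * d ^ b ≠ 1) {L : List (ℕ × F)}
    (hinv : ∀ t, ∀ v ∈ W ρ ψ L, ρ (xg r t) v ∈ W ρ ψ L)
    (hg : ∀ v ∈ W ρ ψ L, ρ (tor l d) v ∈ W ρ ψ L) :
    trW ρ ψ (tor l d) L = trW ρ ψ (tor l d) ((r, (0 : F)) :: L) := by
  classical
  rw [trW, tr_slices ρ eX ψ hψ (r := r) (l ^ a * d ^ b) (fun x => tor_conj hm l d x)
    (fun t v hv => hinv t v hv) hg]
  rw [show Finset.univ.filter (fun x : F => x * (((l ^ a * d ^ b)⁻¹ : Fˣ) : F) = x) = {0} from ?_,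
    Finset.sum_singleton]
  ext x
  simp only [Finset.mem_filter, Finset.mem_univ, true_and, Finset.mem_singleton]
  refine ⟨fun h => ?_, fun h => by rw [h, zero_mul]⟩
  by_contra hx
  exact h1 (inv_eq_one.mp (Units.ext (mul_left_cancel₀ hx (h.trans (mul_one x).symm))))

/-- The three representative lines. -/
def lineA : List (ℕ × F) := [(9, 0), (10, 0), (11, 1)]

/-- The second line. -/
def lineB : List (ℕ × F) := [(9, 0), (10, 1), (11, 0)]

/-- The third line. -/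
def lineC : List (ℕ × F) := [(6, 1), (8, 0), (9, 0), (10, 0), (11, 0)]

variable {w : Fˣ}

theorem w_pows (hw : orderOf w = 3) :
    w ^ (-3 : ℤ) * (1 : Fˣ) ^ (2 : ℤ) = 1 ∧ w ^ (3 : ℤ) * (1 : Fˣ) ^ (-1 : ℤ) = 1 ∧
      w ^ (0 : ℤ) * (1 : Fˣ) ^ (1 : ℤ) = 1 ∧ w ^ (-1 : ℤ) * (1 : Fˣ) ^ (1 : ℤ) ≠ 1 ∧
      w ^ (1 : ℤ) * (1 : Fˣ) ^ (0 : ℤ) ≠ 1 := by
  have h3 : w ^ 3 = 1 := hw ▸ pow_orderOf_eq_one w
  have hne : w ≠ 1 := fun h => by simp [h] at hw
  refine ⟨?_, ?_, by simp, by simpa using hne, by simpa using hne⟩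
  · rw [one_zpow, mul_one, show (-3 : ℤ) = -((3 : ℕ) : ℤ) from rfl, zpow_neg, zpow_natCast, h3,
      inv_one]
  · rw [one_zpow, mul_one, show (3 : ℤ) = ((3 : ℕ) : ℤ) from rfl, zpow_natCast, h3]

theorem inv_line3 (hw : orderOf w = 3) (β c : F) :
    ∀ v ∈ W ρ ψ [(9, (0 : F)), (10, β), (11, c)],
      ρ (tor w 1) v ∈ W ρ ψ [(9, (0 : F)), (10, β), (11, c)] := by
  obtain ⟨-, h10, h11, -, -⟩ := w_pows hw
  have := tor_inv_W ρ ψ w 1 [(9, 1, 0, (0 : F)), (10, 3, -1, β), (11, 0, 1, c)]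
    (by simp [chiList]) (by
      simp only [List.forall_mem_cons, List.not_mem_nil, IsEmpty.forall_iff, implies_true, and_true,
        zero_mul, h10, h11, Units.val_one, mul_one])
  exact this

theorem inv_line5 (hw : orderOf w = 3) (γ : F) :
    ∀ v ∈ W ρ ψ [(6, γ), (8, (0 : F)), (9, 0), (10, 0), (11, 0)],
      ρ (tor w 1) v ∈ W ρ ψ [(6, γ), (8, (0 : F)), (9, 0), (10, 0), (11, 0)] := by
  obtain ⟨h6, -, -, -, -⟩ := w_pows hw
  have := tor_inv_W ρ ψ w 1 [(6, -3, 2, γ), (8, -1, 1, (0 : F)), (9, 1, 0, 0), (10, 3, -1, 0),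
    (11, 0, 1, 0)] (by simp [chiList]) (by
      simp only [List.forall_mem_cons, List.not_mem_nil, IsEmpty.forall_iff, implies_true, and_true,
        zero_mul, h6, Units.val_one, mul_one])
  exact this

theorem trA (hw : orderOf w = 3) {c : F} (hc : c ≠ 0) (β : F) :
    trW ρ ψ (tor w 1) [(9, (0 : F)), (10, β), (11, c)] = trW ρ ψ (tor w 1) lineA := by
  obtain ⟨h6, -, -, -, -⟩ := w_pows hw
  have e1 : trW ρ ψ (tor w 1) [(9, (0 : F)), (10, β), (11, c)] =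
      trW ρ ψ (tor w 1) [(9, (0 : F)), (10, 0), (11, c)] := by
    refine tr_conj ρ eX ψ (xg 6 (-β / c)) (xg_comm (by simp [chiList]) h6 _)
      (fun v hv => ?_) (fun v hv => ?_) (inv_line3 ρ ψ hw 0 c)
    · have := map6 ρ ψ (-β / c) _ _ _ hv
      rwa [show (0 : F) - -β / c * c = β by field_simp; ring] at this
    · have := map6 ρ ψ (β / c) _ _ _ hv
      rw [show β - β / c * c = 0 by field_simp; ring] at this
      rwa [xg_inv, show -(-β / c) = β / c by ring]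
  rw [e1]
  obtain ⟨m1, m2⟩ := maps_tor ρ ψ 1 (Units.mk0 c hc)
    [(9, 1, 0, (0 : F)), (10, 3, -1, 0), (11, 0, 1, 1)] (by simp [chiList])
  simp only [List.map_cons, List.map_nil, zero_mul, one_mul, one_zpow, zpow_one,
    Units.val_mk0] at m1 m2
  exact (tr_conj ρ eX ψ (tor 1 (Units.mk0 c hc)) (tor_comm _ _ _ _) m1 m2
    (inv_line3 ρ ψ hw 0 c)).symm

theorem trB (hw : orderOf w = 3) {β : F} (hβ : β ≠ 0) :
    trW ρ ψ (tor w 1) [(9, (0 : F)), (10, β), (11, 0)] = trW ρ ψ (tor w 1) lineB := by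
  obtain ⟨m1, m2⟩ := maps_tor ρ ψ 1 (Units.mk0 β hβ)⁻¹
    [(9, 1, 0, (0 : F)), (10, 3, -1, 1), (11, 0, 1, 0)] (by simp [chiList])
  simp only [List.map_cons, List.map_nil, zero_mul, one_mul, one_zpow, zpow_neg, zpow_one,
    inv_inv, Units.val_mk0] at m1 m2
  exact (tr_conj ρ eX ψ (tor 1 (Units.mk0 β hβ)⁻¹) (tor_comm _ _ _ _) m1 m2
    (inv_line3 ρ ψ hw β 0)).symm

theorem trC (hw : orderOf w = 3) {γ : F} (hγ : γ ≠ 0) :
    trW ρ ψ (tor w 1) [(6, γ), (8, (0 : F)), (9, 0), (10, 0), (11, 0)] =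
      trW ρ ψ (tor w 1) lineC := by
  set u := Units.mk0 γ hγ with hu
  obtain ⟨m1, m2⟩ := maps_tor ρ ψ u (u ^ 2)
    [(6, -3, 2, (1 : F)), (8, -1, 1, 0), (9, 1, 0, 0), (10, 3, -1, 0), (11, 0, 1, 0)]
    (by simp [chiList])
  have e : u ^ (-3 : ℤ) * (u ^ 2) ^ (2 : ℤ) = u := by group
  simp only [List.map_cons, List.map_nil, zero_mul, one_mul, e] at m1 m2
  rw [hu, Units.val_mk0] at m1 m2
  exact (tr_conj ρ eX ψ (tor u (u ^ 2)) (tor_comm _ _ _ _) m1 m2 (inv_line5 ρ ψ hw γ)).symm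

/-- The character at an element of order three of the torus. -/
theorem char_three (hψ : ψ.IsPrimitive) (hw : orderOf w = 3)
    (h0 : supp ρ ψ 0 0 0 = 0) :
    LinearMap.trace ℂ V (ρ (tor w 1)) = ((Fintype.card F - 1 : ℕ) : ℂ) *
      ((Fintype.card F : ℂ) * trW ρ ψ (tor w 1) lineA + trW ρ ψ (tor w 1) lineB +
        trW ρ ψ (tor w 1) lineC) := by
  classical
  obtain ⟨h6, h10, h11, h8, h9⟩ := w_pows hw
  have hsum : ∀ (f : F → ℂ) (z : ℂ), (∀ a : F, a ≠ 0 → f a = z) →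
      ∑ a, f a = f 0 + ((Fintype.card F - 1 : ℕ) : ℂ) * z := fun f z h => by
    rw [← Finset.add_sum_erase _ _ (Finset.mem_univ (0 : F)),
      Finset.sum_congr rfl fun a ha => h a (Finset.ne_of_mem_erase ha), Finset.sum_const,
      Finset.card_erase_of_mem (Finset.mem_univ _), Finset.card_univ, nsmul_eq_mul]
  have g1 : ∀ c : F, ∀ v ∈ W ρ ψ [(11, c)], ρ (tor w 1) v ∈ W ρ ψ [(11, c)] := fun c =>
    tor_inv_W ρ ψ w 1 [(11, 0, 1, c)] (by simp [chiList]) (by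
      simp only [List.forall_mem_cons, List.not_mem_nil, IsEmpty.forall_iff, implies_true,
        and_true, h11, Units.val_one, mul_one])
  have g2 : ∀ β c : F, ∀ v ∈ W ρ ψ [(10, β), (11, c)],
      ρ (tor w 1) v ∈ W ρ ψ [(10, β), (11, c)] := fun β c =>
    tor_inv_W ρ ψ w 1 [(10, 3, -1, β), (11, 0, 1, c)] (by simp [chiList]) (by
      simp only [List.forall_mem_cons, List.not_mem_nil, IsEmpty.forall_iff, implies_true,
        and_true, h10, h11, Units.val_one, mul_one])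
  have g3 : ∀ v ∈ W ρ ψ [(8, (0 : F)), (9, 0), (10, 0), (11, 0)],
      ρ (tor w 1) v ∈ W ρ ψ [(8, (0 : F)), (9, 0), (10, 0), (11, 0)] :=
    tor_inv_W ρ ψ w 1 [(8, -1, 1, (0 : F)), (9, 1, 0, 0), (10, 3, -1, 0), (11, 0, 1, 0)]
      (by simp [chiList]) (by simp)
  have k11 : ∀ c : F, trW ρ ψ (tor w 1) [(11, c)] =
      ∑ β : F, trW ρ ψ (tor w 1) [(9, (0 : F)), (10, β), (11, c)] := fun c => by
    rw [tr_fixed ρ ψ hψ (r := 10) (a := 3) (b := -1) (by simp [chiList]) h10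
      (fun t v hv => inv_pair ρ ψ (by simp [commPairs]) hv) (g1 c)]
    exact Finset.sum_congr rfl fun β _ => tr_moved ρ ψ hψ (r := 9) (a := 1) (b := 0)
      (by simp [chiList]) h9 (fun t v hv => inv_pair ρ ψ (by simp [commPairs]) hv) (g2 β c)
  have k00 : trW ρ ψ (tor w 1) [(9, (0 : F)), (10, 0), (11, 0)] =
      ((Fintype.card F - 1 : ℕ) : ℂ) * trW ρ ψ (tor w 1) lineC := by
    rw [tr_moved ρ ψ hψ (r := 8) (a := -1) (b := 1) (by simp [chiList]) h8
      (fun t v hv => inv8 ρ ψ t hv) (inv_line3 ρ ψ hw 0 0),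
      tr_fixed ρ ψ hψ (r := 6) (a := -3) (b := 2) (by simp [chiList]) h6
      (fun t v hv => inv6 ρ ψ t hv) g3, hsum _ _ fun γ hγ => trC ρ ψ hw hγ]
    rw [trW, tr_eq_zero_of_finrank ρ eX ψ (L := [(6, (0 : F)), (8, 0), (9, 0), (10, 0), (11, 0)]) h0,
      zero_add]
  rw [← tr_nil ρ eX ψ, show tr ρ eX ψ (tor w 1) [] = _ from
    tr_fixed ρ ψ hψ (r := 11) (a := 0) (b := 1) (L := []) (by simp [chiList]) h11
      (fun t v _ => mem_W_nil ρ ψ) (fun v _ => mem_W_nil ρ ψ)]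
  rw [hsum _ ((Fintype.card F : ℂ) * trW ρ ψ (tor w 1) lineA) fun c hc => by
      rw [k11, Finset.sum_congr rfl fun β _ => trA ρ ψ hw hc β, Finset.sum_const,
        Finset.card_univ, nsmul_eq_mul],
    k11, hsum _ _ fun β hβ => trB ρ ψ hw hβ, k00]
  ring

theorem orderOf_sq (hw : orderOf w = 3) : orderOf (w ^ 2) = 3 := by
  rw [orderOf_pow, hw]; rfl

/-- Cube roots of unity with a real weighted sum. -/
theorem real_roots {q : ℕ} (hq : 5 ≤ q) {s a b : ℂ} (hs : s ^ 3 = 1) (ha : a ^ 3 = 1)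
    (hb : b ^ 3 = 1) (h : (q : ℂ) * s + a + b = (q : ℂ) * s ^ 2 + a ^ 2 + b ^ 2) :
    s = 1 ∧ (a + b = 2 ∨ a + b = -1) := by
  have key : ∀ z : ℂ, z ^ 3 = 1 → z = 1 ∨ z ^ 2 + z + 1 = 0 := fun z hz => by
    have : (z - 1) * (z ^ 2 + z + 1) = 0 := by linear_combination hz
    exact (mul_eq_zero.mp this).imp sub_eq_zero.mp id
  have hsq : ∀ z : ℂ, z ^ 3 = 1 → (z - z ^ 2) ^ 2 = 0 ∨ (z - z ^ 2) ^ 2 = -3 := fun z hz => by
    rcases key z hz with h1 | h1
    · exact Or.inl (by rw [h1]; ring)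
    · exact Or.inr (by linear_combination (z ^ 2 - 3 * z + 3) * h1)
  have h1 : s = 1 := by
    rcases key s hs with h1 | h1
    · exact h1
    · exfalso
      have e : (q : ℂ) ^ 2 * (-3) = ((a - a ^ 2) + (b - b ^ 2)) ^ 2 := by
        linear_combination ((q : ℂ) * (s - s ^ 2) - ((a - a ^ 2) + (b - b ^ 2))) * h
          - (q : ℂ) ^ 2 * (s ^ 2 - 3 * s + 3) * h1
      have e2 : ((a - a ^ 2) + (b - b ^ 2)) ^ 2 = 0 ∨ ((a - a ^ 2) + (b - b ^ 2)) ^ 2 = -3 ∨
          ((a - a ^ 2) + (b - b ^ 2)) ^ 2 = -12 := by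
        rcases key a ha with h2 | h2 <;> rcases key b hb with h3 | h3
        · exact Or.inl (by rw [h2, h3]; ring)
        · exact Or.inr (Or.inl (by rw [h2]; linear_combination (b ^ 2 - 3 * b + 3) * h3))
        · exact Or.inr (Or.inl (by rw [h3]; linear_combination (a ^ 2 - 3 * a + 3) * h2))
        · have h4 : (a - b) * (a + b + 1) = 0 := by linear_combination h2 - h3
          rcases mul_eq_zero.mp h4 with h5 | h5
          · rw [sub_eq_zero.mp h5]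
            exact Or.inr (Or.inr (by linear_combination 4 * (b ^ 2 - 3 * b + 3) * h3))
          · refine Or.inl ?_
            rw [show b = -a - 1 by linear_combination h5]
            linear_combination (4 * a ^ 2 + 4 * a + 4) * h2
      have hq2 : 25 ≤ q ^ 2 := by nlinarith
      rcases e2 with e3 | e3 | e3
      · rw [e3] at e
        have : ((q ^ 2 * 3 : ℕ) : ℂ) = ((0 : ℕ) : ℂ) := by push_cast; linear_combination -e
        have := Nat.cast_injective this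
        omega
      · rw [e3] at e
        have : ((q ^ 2 * 3 : ℕ) : ℂ) = ((3 : ℕ) : ℂ) := by push_cast; linear_combination -e
        have := Nat.cast_injective this
        omega
      · rw [e3] at e
        have : ((q ^ 2 * 3 : ℕ) : ℂ) = ((12 : ℕ) : ℂ) := by push_cast; linear_combination -e
        have := Nat.cast_injective this
        omega
  refine ⟨h1, ?_⟩
  subst h1
  have hab : a + b = a ^ 2 + b ^ 2 := by linear_combination h
  rcases key a ha with h2 | h2 <;> rcases key b hb with h3 | h3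
  · exact Or.inl (by rw [h2, h3]; ring)
  · exfalso
    subst h2
    have hb' : b = b ^ 2 := by linear_combination hab
    have : (2 : ℂ) * b + 1 = 0 := by linear_combination h3 + hb'
    have hb2 : b = -1 / 2 := by linear_combination this / 2
    rw [hb2] at hb'
    norm_num at hb'
  · exfalso
    subst h3
    have ha' : a = a ^ 2 := by linear_combination hab
    have : (2 : ℂ) * a + 1 = 0 := by linear_combination h2 + ha'
    have ha2 : a = -1 / 2 := by linear_combination this / 2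
    rw [ha2] at ha'
    norm_num at ha'
  · exact Or.inr (by linear_combination (h2 + h3 + hab) / 2)

theorem not_q_cube_sub_one (hψ : ψ.IsPrimitive) (h3 : (3 : F) ≠ 0) (hq : 5 ≤ Fintype.card F)
    (h13 : Fintype.card F % 3 = 1) (hρ : ρ.IsIrreducible) (hm : mult ρ ψ = 1)
    (h0 : supp ρ ψ 0 0 0 = 0) : finrank ℂ V + 1 ≠ Fintype.card F ^ 3 := by
  intro hk
  haveI := hρ
  haveI := finite_group (F := F)
  classical
  obtain ⟨w, hw⟩ : ∃ w : Fˣ, orderOf w = 3 := by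
    haveI := Fact.mk Nat.prime_three
    refine exists_prime_orderOf_dvd_card 3 ?_
    rw [Fintype.card_units]
    omega
  set g := tor w (1 : Fˣ) with hg
  have hg2 : g ^ 2 = tor (w ^ 2) 1 := by rw [hg, pow_two, tor_mul, pow_two, one_mul]
  have hg3 : g ^ 3 = 1 := by
    rw [pow_succ, hg2, hg, tor_mul, ← pow_succ, ← tor_one]
    congr 1
    · show w ^ 3 = 1
      exact hw ▸ pow_orderOf_eq_one w
    · exact one_mul _
  have hl : ∀ {L : List (ℕ × F)}, dW ρ ψ L = 1 → (∀ v ∈ W ρ ψ L, ρ g v ∈ W ρ ψ L) →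
      ∃ s : ℂ, s ^ 3 = 1 ∧ trW ρ ψ g L = s ∧ trW ρ ψ (g ^ 2) L = s ^ 2 := fun h1 h2 => by
    obtain ⟨s, hs, hm'⟩ := exists_scalar ρ eX ψ hg3 h1 h2
    exact ⟨s, hs, by simpa using hm' 1, hm' 2⟩
  obtain ⟨s, hs, hs1, hs2⟩ := hl (L := lineA) hm (inv_line3 ρ ψ hw 0 1)
  obtain ⟨a, ha, ha1, ha2⟩ := hl (L := lineB) (dW_line ρ ψ hψ h3 hm one_ne_zero 0)
    (inv_line3 ρ ψ hw 1 0)
  obtain ⟨b, hb, hb1, hb2⟩ := hl (L := lineC) (supp_line ρ ψ hψ h3 hq hm one_ne_zero)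
    (inv_line5 ρ ψ hw 1)
  have c1 := char_three ρ ψ hψ hw h0
  have c2 := char_three ρ ψ hψ (orderOf_sq hw) h0
  rw [← hg, hs1, ha1, hb1] at c1
  rw [← hg2, hs2, ha2, hb2] at c2
  have hconj : LinearMap.trace ℂ V (ρ (g ^ 2)) = LinearMap.trace ℂ V (ρ g) := by
    have hn := nF_tor_a w (1 : Fˣ)
    have e : tor (1 * w⁻¹) 1 = g ^ 2 := by
      rw [hg2, one_mul]
      congr 1
      exact inv_eq_of_mul_eq_one_right (by rw [← pow_succ']; show w ^ 3 = 1; exact hw ▸ pow_orderOf_eq_one w)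
    rw [e] at hn
    have h4 : g ^ 2 = nF OreG2.ia * g * (nF OreG2.ia)⁻¹ := eq_mul_inv_iff_mul_eq.mpr hn.symm
    rw [h4]
    exact ρ.char_conj g (nF OreG2.ia)
  rw [c1, c2] at hconj
  have hq1 : ((Fintype.card F - 1 : ℕ) : ℂ) ≠ 0 := by
    exact_mod_cast (show Fintype.card F - 1 ≠ 0 by omega)
  obtain ⟨rfl, hab⟩ := real_roots hq hs ha hb (mul_left_cancel₀ hq1 hconj).symm
  obtain ⟨x, hx, hxlt, hx0⟩ : ∃ x : ℕ, LinearMap.trace ℂ V (ρ g) = x ∧
      2 * x < finrank ℂ V ∧ 0 < x := by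
    obtain ⟨r, hr⟩ : ∃ r, Fintype.card F = r + 5 := Nat.exists_eq_add_of_le' hq
    rcases hab with hab | hab
    · refine ⟨(r + 4) * (r + 7), ?_, ?_, by positivity⟩
      · rw [c1, mul_one, add_assoc, hab, hr, show r + 5 - 1 = r + 4 by omega]
        push_cast; ring
      · rw [hr] at hk; nlinarith
    · refine ⟨(r + 4) * (r + 4), ?_, ?_, by positivity⟩
      · rw [c1, mul_one, add_assoc, hab, hr, show r + 5 - 1 = r + 4 by omega]
        push_cast; ring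
      · rw [hr] at hk; nlinarith
  have hint := CfsgLib.Char.isIntegral_index_mul_char_div ρ g
  rw [hg, index_three hw, ← hg, Representation.character, hx] at hint
  set N := finrank ℂ V
  set Q := Fintype.card F ^ 3 with hQ
  have hdvd : N ∣ Q * (Q + 1) * x := by
    refine CfsgLib.Char.dvd_of_isIntegral_div (by omega) ?_
    rw [Nat.cast_mul]
    exact hint
  have hdvd2 : N ∣ 2 * x := by
    have e : Q * (Q + 1) * x = N * ((N + 3) * x) + 2 * x := by rw [← hk]; ring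
    rw [e] at hdvd
    exact (Nat.dvd_add_right (dvd_mul_right _ _)).mp hdvd
  have := Nat.le_of_dvd (by omega) hdvd2
  omega

end CfsgLib.G2MinDeg
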