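import Cfsg.Agent.G2MinDeg.CentThree

/-!
The Bruhat cells of `G₂(q)` through twelve words.
-/

set_option autoImplicit false
set_option linter.style.haveILetI false
set_option linter.unusedSectionVars false

namespace CfsgLib.G2MinDeg

open Cfsg.Lie CfsgLib.Chev CfsgLib.Chev.Tab CfsgLib.OreG2

/-- The number of long reflections in a word. -/
def longs (w : List (Fin chevG2.rank)) : ℕ := w.countP fun i => decide (i.val = 1)

theorem words_pos_reverse : ∀ w ∈ G2Sections.words, ∀ j : Fin w.reverse.length,
    (w.reverse.get j).val = 1 →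
    IsPos chevG2 (G2Data.tab.wordT ((w.reverse.take j).map Fin.val) 6) := by decide +kernel

theorem words_pos : ∀ w ∈ G2Sections.words, ∀ j : Fin w.length, (w.get j).val = 1 →
    IsPos chevG2 (G2Data.tab.wordT ((w.take j).map Fin.val) 6) := by decide +kernel

theorem words_flip : ∀ w ∈ G2Sections.words,
    ((List.range 12).countP fun s => decide (IsPos chevG2 s) &&
      !decide (IsPos chevG2 (G2Data.tab.wordT (w.map Fin.val) s))) = w.length := by decide +kernel

theorem words_shape : G2Sections.words.map (fun w => (w.length, longs w)) =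
    [(0, 0), (1, 0), (1, 1), (2, 1), (2, 1), (3, 1), (3, 2), (4, 2), (4, 2), (5, 2), (5, 3),
      (6, 3)] := by decide +kernel

theorem words_nodup : G2Sections.words.Nodup := List.Nodup.of_map _ imgs_nodup

theorem pw_injOn {w w' : List (Fin chevG2.rank)} (hw : w ∈ G2Sections.words)
    (hw' : w' ∈ G2Sections.words) (e : good_G2.full.pw w = good_G2.full.pw w') : w = w' :=
  List.inj_on_of_nodup_map imgs_nodup hw hw' (by rw [imgs_eq, imgs_eq, e])

variable {F : Type*} [Field F]

/-- The Borel subgroup in the group. -/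
def borelG : Subgroup (chevG2.group F) := (chevG2.borelSubgroup F).subgroupOf (chevG2.group F)

/-- The product of reflections along a word. -/
noncomputable def nW (w : List (Fin chevG2.rank)) : chevG2.group F := (w.map nF).prod

theorem coe_nW : ∀ w : List (Fin chevG2.rank),
    (nW (F := F) w : GL chevG2.Idx F) = good_G2.full.nw F w
  | [] => rfl
  | i :: w => by
    rw [good_G2.nw_cons, ← coe_nW w]
    rfl

theorem nW_append (w w' : List (Fin chevG2.rank)) : nW (F := F) (w ++ w') = nW w * nW w' := by
  simp [nW]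

/-- The index set of the cells. -/
abbrev CellWord : Type := {w : List (Fin chevG2.rank) // w ∈ G2Sections.words.toFinset}

/-- The unipotent part of a cell. -/
abbrev cellU (F : Type*) [Field F] (w : CellWord) : Subgroup (GL chevG2.Idx F) :=
  good_G2.US F (flipSet (good_G2.full.pw w.1))

/-- The element with given coordinates. -/
noncomputable def cellMap (p : Σ w : CellWord, borelG (F := F) × cellU F w) : chevG2.group F :=
  (p.2.1 : chevG2.group F) * nW p.1.1 * ⟨p.2.2.1, good_G2.US_le_group _ p.2.2.2⟩

theorem cellU_borel (w : CellWord) (u : cellU F w) :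
    (⟨u.1, good_G2.US_le_group _ u.2⟩ : chevG2.group F) ∈ borelG := by
  refine Subgroup.mem_subgroupOf.mpr (Subgroup.mem_sup_left ?_)
  show (u : GL chevG2.Idx F) ∈ chevG2.posUnipotent F
  rw [good_G2.posUnipotent_eq]
  exact good_G2.US_mono (fun s hs => hs.2.1) u.2

theorem coe_cellMap (σ : CellWord) (b : borelG (F := F)) (u : cellU F σ) :
    (cellMap (F := F) ⟨σ, (b, u)⟩ : GL chevG2.Idx F) =
      ((b : chevG2.group F) : GL chevG2.Idx F) * good_G2.full.nw F σ.1 * u := by
  rw [← coe_nW]
  rfl

theorem cellMap_bijective : Function.Bijective (cellMap (F := F)) := by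
  constructor
  · rintro ⟨σ, b, u⟩ ⟨σ', b', u'⟩ e
    have e' : ((b : chevG2.group F) : GL chevG2.Idx F) * good_G2.full.nw F σ.1 * u =
        ((b' : chevG2.group F) : GL chevG2.Idx F) * good_G2.full.nw F σ'.1 * u' := by
      rw [← coe_nW, ← coe_nW]
      exact congrArg Subtype.val e
    obtain ⟨h1, h2⟩ := good_G2.canonical_unique (Subgroup.mem_subgroupOf.mp b.2)
      (Subgroup.mem_subgroupOf.mp b'.2) (good_G2.nw_mem_monomial _) (good_G2.nw_mem_monomial _)
      (good_G2.rootAct_nw σ.1) (good_G2.rootAct_nw σ'.1) u.2 u'.2 e'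
    rw [good_G2.full.diagonal_eq_range] at h1
    obtain ⟨c, hc⟩ := h1
    have hact : good_G2.full.RootAct (good_G2.full.nw F σ'.1) (good_G2.full.pw σ.1) := by
      have h := good_G2.rootAct_mul (good_G2.rootAct_nw (F := F) σ.1) (good_G2.rootAct_hT c)
      rwa [hc, mul_inv_cancel_left, mul_one] at h
    have hσ : σ = σ' := Subtype.ext (pw_injOn (List.mem_toFinset.mp σ.2) (List.mem_toFinset.mp σ'.2)
      (good_G2.rootAct_unique hact (good_G2.rootAct_nw σ'.1)))
    subst hσ
    obtain ⟨hb, hu⟩ := h2 rfl
    rw [Subtype.ext (Subtype.ext hb) (a2 := b'), Subtype.ext hu (a2 := u')]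
  · rintro ⟨g, hg⟩
    obtain ⟨b, hb, m, hm, L', hL', u, hu, rfl⟩ := good_G2.canonical_exists hg
    obtain ⟨w, hw, ew⟩ := exists_word L'
    rw [ew] at hL' hu
    have hd : m * (good_G2.full.nw F w)⁻¹ ∈ chevG2.diagonalSubgroup F := by
      refine good_G2.mem_diagonal_of_pos (mul_mem hm (inv_mem (good_G2.nw_mem_monomial _)))
        (good_G2.rootAct_mul hL' (good_G2.rootAct_inv (good_G2.nw_mem_monomial _)
          (good_G2.rootAct_nw w))) fun s hs => ?_
      rw [mul_inv_cancel]
      exact hs
    have hbd : b * (m * (good_G2.full.nw F w)⁻¹) ∈ chevG2.borelSubgroup F :=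
      mul_mem hb (Subgroup.mem_sup_right hd)
    let σ : CellWord := ⟨w, List.mem_toFinset.mpr hw⟩
    let bG : chevG2.group F :=
      ⟨b * (m * (good_G2.full.nw F w)⁻¹), good_G2.borel_le_group hbd⟩
    have hbG : bG ∈ borelG (F := F) := Subgroup.mem_subgroupOf.mpr hbd
    let uU : cellU F σ := ⟨u, hu⟩
    refine ⟨Sigma.mk σ (Prod.mk (Subtype.mk bG hbG) uU), Subtype.ext ?_⟩
    refine (coe_cellMap σ (Subtype.mk bG hbG) uU).trans ?_
    show b * (m * (good_G2.full.nw F w)⁻¹) * good_G2.full.nw F w * u = b * m * u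
    rw [← mul_assoc b m, inv_mul_cancel_right]

theorem card_cellU [Fintype F] (w : CellWord) :
    Nat.card (cellU F w) = Fintype.card F ^ w.1.length := by
  rw [good_G2.card_US (good_G2.closed_flip w.1), good_G2.invSet_card,
    Nat.card_eq_fintype_card (α := F), ← words_flip w.1 (List.mem_toFinset.mp w.2),
    ← card_filter_eq (q := fun s => IsPos chevG2 s.val ∧
      ¬ IsPos chevG2 (good_G2.full.pw w.1 s).val) fun s => by simp [good_G2.pw_apply]]
  congr 2

theorem sum_words {R : Type*} [AddCommMonoid R] (f : ℕ → ℕ → R) :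
    ∑ w : CellWord, f w.1.length (longs w.1) =
      ((G2Sections.words.map fun w => (w.length, longs w)).map fun p => f p.1 p.2).sum := by
  rw [Finset.sum_coe_sort G2Sections.words.toFinset (fun w => f w.length (longs w)),
    List.sum_toFinset _ words_nodup, List.map_map]
  rfl

end CfsgLib.G2MinDeg
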