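import Cfsg.Agent.G2MinDeg.Rep
import Mathlib.GroupTheory.SpecificGroups.Cyclic

/-!
Weights of a representation of `G₂(q)` on root subgroups in characteristic other than three.
-/

set_option autoImplicit false
set_option linter.style.haveILetI false
set_option linter.unusedSectionVars false

namespace CfsgLib.G2MinDeg

open Module Cfsg.Lie CfsgLib.MinDeg

variable {F : Type*} [Field F] [Fintype F] {V : Type*} [AddCommGroup V] [Module ℂ V]
  [FiniteDimensional ℂ V] (ρ : Representation ℂ (chevG2.group F) V) (ψ : AddChar F ℂ)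

theorem mem_W_cons {p : ℕ × F} {L : List (ℕ × F)} {v : V} :
    v ∈ W ρ ψ (p :: L) ↔ v ∈ eig ρ eX ψ p.1 p.2 ∧ v ∈ W ρ ψ L := Submodule.mem_inf

theorem mem_W_nil {v : V} : v ∈ W ρ ψ ([] : List (ℕ × F)) := Submodule.mem_top

/-- The action of `x₈` on the character of `x₉`. -/
theorem e89 {L : List (ℕ × F)} {α c : F} (t : F) {v : V} (hv : v ∈ W ρ ψ L) (h1 : (9, α) ∈ L)
    (h2 : (11, c) ∈ L) : ρ (xg 8 t) v ∈ eig ρ eX ψ 9 (α - 3 * t * c) :=
  step ρ ψ hv (fun u => [(9, α, u), (11, c, -(3 * (t * u)))]) (fun u => swap89 t u)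
    (fun u p hp => by
      simp only [List.mem_cons, List.not_mem_nil, or_false] at hp
      rcases hp with rfl | rfl <;> assumption)
    fun u => by simp; ring

/-- The action of `x₆` on the character of `x₁₀`. -/
theorem e610 {L : List (ℕ × F)} {β c : F} (t : F) {v : V} (hv : v ∈ W ρ ψ L) (h1 : (10, β) ∈ L)
    (h2 : (11, c) ∈ L) : ρ (xg 6 t) v ∈ eig ρ eX ψ 10 (β - t * c) :=
  step ρ ψ hv (fun u => [(10, β, u), (11, c, -(t * u))]) (fun u => swap610 t u)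
    (fun u p hp => by
      simp only [List.mem_cons, List.not_mem_nil, or_false] at hp
      rcases hp with rfl | rfl <;> assumption)
    fun u => by simp; ring

/-- The action of `x₇` on the character of `x₉`. -/
theorem e79 {L : List (ℕ × F)} {α β : F} (t : F) {v : V} (hv : v ∈ W ρ ψ L) (h1 : (9, α) ∈ L)
    (h2 : (10, β) ∈ L) : ρ (xg 7 t) v ∈ eig ρ eX ψ 9 (α - 3 * t * β) :=
  step ρ ψ hv (fun u => [(9, α, u), (10, β, -(3 * (t * u)))]) (fun u => swap79 t u)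
    (fun u p hp => by
      simp only [List.mem_cons, List.not_mem_nil, or_false] at hp
      rcases hp with rfl | rfl <;> assumption)
    fun u => by simp; ring

theorem map8 (t α β c : F) {v : V} (hv : v ∈ W ρ ψ [(9, α), (10, β), (11, c)]) :
    ρ (xg 8 t) v ∈ W ρ ψ [(9, α - 3 * t * c), (10, β), (11, c)] :=
  (mem_W_cons ρ ψ).2 ⟨e89 ρ ψ t hv (by simp) (by simp), (mem_W_cons ρ ψ).2
    ⟨step_pair ρ ψ hv (Or.inl (by simp [commPairs])) (by simp), (mem_W_cons ρ ψ).2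
      ⟨step_pair ρ ψ hv (Or.inl (by simp [commPairs])) (by simp), mem_W_nil ρ ψ⟩⟩⟩

theorem map6 (t α β c : F) {v : V} (hv : v ∈ W ρ ψ [(9, α), (10, β), (11, c)]) :
    ρ (xg 6 t) v ∈ W ρ ψ [(9, α), (10, β - t * c), (11, c)] :=
  (mem_W_cons ρ ψ).2 ⟨step_pair ρ ψ hv (Or.inl (by simp [commPairs])) (by simp),
    (mem_W_cons ρ ψ).2 ⟨e610 ρ ψ t hv (by simp) (by simp), (mem_W_cons ρ ψ).2
      ⟨step_pair ρ ψ hv (Or.inl (by simp [commPairs])) (by simp), mem_W_nil ρ ψ⟩⟩⟩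

theorem map7 (t α β c : F) {v : V} (hv : v ∈ W ρ ψ [(9, α), (10, β), (11, c)]) :
    ρ (xg 7 t) v ∈ W ρ ψ [(9, α - 3 * t * β), (10, β), (11, c)] :=
  (mem_W_cons ρ ψ).2 ⟨e79 ρ ψ t hv (by simp) (by simp), (mem_W_cons ρ ψ).2
    ⟨step_pair ρ ψ hv (Or.inl (by simp [commPairs])) (by simp), (mem_W_cons ρ ψ).2
      ⟨step_pair ρ ψ hv (Or.inl (by simp [commPairs])) (by simp), mem_W_nil ρ ψ⟩⟩⟩

/-- The multiplicity of the characters non-trivial on the long root subgroup of the centre. -/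
noncomputable def mult : ℕ := dW ρ ψ [(9, (0 : F)), (10, 0), (11, 1)]

theorem dW_generic (h3 : (3 : F) ≠ 0) {c : F} (hc : c ≠ 0) (α β : F) :
    dW ρ ψ [(9, α), (10, β), (11, c)] = mult ρ ψ := by
  have s8 : ∀ α' : F, dW ρ ψ [(9, α), (10, β), (11, c)] = dW ρ ψ [(9, α'), (10, β), (11, c)] := by
    intro α'
    refine dW_shift ρ ψ (r := 8) (t := (α - α') / (3 * c)) (fun v hv => ?_) fun v hv => ?_
    · have := map8 ρ ψ ((α - α') / (3 * c)) _ _ _ hv
      rwa [show α - 3 * ((α - α') / (3 * c)) * c = α' by field_simp; ring] at this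
    · have := map8 ρ ψ (-((α - α') / (3 * c))) _ _ _ hv
      rwa [show α' - 3 * -((α - α') / (3 * c)) * c = α by field_simp; ring] at this
  have s6 : ∀ β' : F, dW ρ ψ [(9, (0 : F)), (10, β), (11, c)] =
      dW ρ ψ [(9, 0), (10, β'), (11, c)] := by
    intro β'
    refine dW_shift ρ ψ (r := 6) (t := (β - β') / c) (fun v hv => ?_) fun v hv => ?_
    · have := map6 ρ ψ ((β - β') / c) _ _ _ hv
      rwa [show β - (β - β') / c * c = β' by field_simp; ring] at this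
    · have := map6 ρ ψ (-((β - β') / c)) _ _ _ hv
      rwa [show β' - -((β - β') / c) * c = β by field_simp; ring] at this
  rw [s8 0, s6 0, mult]
  have := dW_tor ρ ψ 1 (Units.mk0 c hc)
    [(9, 1, 0, (0 : F)), (10, 3, -1, 0), (11, 0, 1, 1)] (by simp [chiList])
  simpa using this

theorem dW_11 (hψ : ψ.IsPrimitive) (h3 : (3 : F) ≠ 0) {c : F} (hc : c ≠ 0) :
    dW ρ ψ [(11, c)] = Fintype.card F ^ 2 * mult ρ ψ := by
  rw [← sum_dW_pair ρ ψ hψ 10 (L := [(11, c)]) (by simp [commPairs])]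
  have : ∀ β : F, dW ρ ψ [(10, β), (11, c)] = Fintype.card F * mult ρ ψ := fun β => by
    rw [← sum_dW_pair ρ ψ hψ 9 (L := [(10, β), (11, c)]) (by simp [commPairs]),
      Finset.sum_congr rfl fun α _ => dW_generic ρ ψ h3 hc α β]
    simp
  rw [Finset.sum_congr rfl fun β _ => this β]
  simp
  ring

theorem sum_ne_zero_add (f : F → ℕ) {n : ℕ} (h : ∀ a : F, a ≠ 0 → f a = n) :
    ∑ a : F, f a = f 0 + (Fintype.card F - 1) * n := by
  classical
  rw [← Finset.add_sum_erase _ _ (Finset.mem_univ (0 : F)),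
    Finset.sum_congr rfl fun a ha => h a (Finset.ne_of_mem_erase ha), Finset.sum_const,
    Finset.card_erase_of_mem (Finset.mem_univ _), Finset.card_univ, smul_eq_mul]

theorem finrank_split (hψ : ψ.IsPrimitive) (h3 : (3 : F) ≠ 0) :
    finrank ℂ V = dW ρ ψ [(11, (0 : F))] +
      (Fintype.card F - 1) * (Fintype.card F ^ 2 * mult ρ ψ) := by
  rw [← dW_nil ρ ψ, ← sum_dW_pair ρ ψ hψ 11 (L := []) (by simp)]
  exact sum_ne_zero_add _ fun c hc => dW_11 ρ ψ hψ h3 hc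

theorem mult_pos (hψ : ψ.IsPrimitive) (h3 : (3 : F) ≠ 0) (hF : 3 ≤ Fintype.card F)
    (hρ : ρ.IsIrreducible) (hk : 2 ≤ finrank ℂ V) : 0 < mult ρ ψ := by
  obtain ⟨a, ha, hne⟩ := exists_long_ne_zero ρ ψ hψ hF hρ hk (r := 11) (by norm_num)
  rw [dW_11 ρ ψ hψ h3 ha] at hne
  exact Nat.pos_of_ne_zero fun h => hne (by rw [h, mul_zero])

/-- The consequences of multiplicity one. -/
theorem dW_10_0 (hψ : ψ.IsPrimitive) (h3 : (3 : F) ≠ 0) (hm : mult ρ ψ = 1) {β : F}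
    (hβ : β ≠ 0) : dW ρ ψ [(10, β), (11, (0 : F))] = Fintype.card F := by
  have h := sum_dW_pair ρ ψ hψ 11 (L := [(10, β)]) (by simp [commPairs])
  have hw := dW_weyl ρ ψ 1 [(10, 11, 1, β)] (by simp [weylList])
  simp only [List.map_cons, List.map_nil, Int.cast_one, mul_one] at hw
  rw [hw, dW_11 ρ ψ hψ h3 hβ, hm, mul_one] at h
  rw [sum_ne_zero_add (n := Fintype.card F) _ fun c hc => by
    rw [dW_congr ρ ψ (L' := [(10, β), (11, c)]) (fun p => by simp [or_comm]),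
      ← sum_dW_pair ρ ψ hψ 9 (L := [(10, β), (11, c)]) (by simp [commPairs]),
      Finset.sum_congr rfl fun α _ => dW_generic ρ ψ h3 hc α β, hm]
    simp] at h
  rw [dW_congr ρ ψ (L' := [(10, β), (11, (0 : F))]) (fun p => by simp [or_comm])] at h
  have h1 : 1 ≤ Fintype.card F := Fintype.card_pos
  have : Fintype.card F ^ 2 = Fintype.card F + (Fintype.card F - 1) * Fintype.card F := by
    rw [Nat.sub_mul, one_mul, ← pow_two]
    have : Fintype.card F ≤ Fintype.card F ^ 2 := Nat.le_self_pow two_ne_zero _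
    omega
  omega

theorem dW_line (hψ : ψ.IsPrimitive) (h3 : (3 : F) ≠ 0) (hm : mult ρ ψ = 1) {β : F}
    (hβ : β ≠ 0) (α : F) : dW ρ ψ [(9, α), (10, β), (11, (0 : F))] = 1 := by
  have hc : ∀ α' : F, dW ρ ψ [(9, α'), (10, β), (11, (0 : F))] =
      dW ρ ψ [(9, α), (10, β), (11, 0)] := by
    intro α'
    refine dW_shift ρ ψ (r := 7) (t := (α' - α) / (3 * β)) (fun v hv => ?_) fun v hv => ?_
    · have := map7 ρ ψ ((α' - α) / (3 * β)) _ _ _ hv
      rwa [show α' - 3 * ((α' - α) / (3 * β)) * β = α by field_simp; ring] at this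
    · have := map7 ρ ψ (-((α' - α) / (3 * β))) _ _ _ hv
      rwa [show α - 3 * -((α' - α) / (3 * β)) * β = α' by field_simp; ring] at this
  have h := sum_dW_pair ρ ψ hψ 9 (L := [(10, β), (11, (0 : F))]) (by simp [commPairs])
  rw [dW_10_0 ρ ψ hψ h3 hm hβ, Finset.sum_congr rfl fun α' _ => hc α', Finset.sum_const,
    smul_eq_mul, Finset.card_univ] at h
  exact (Nat.mul_eq_left Fintype.card_ne_zero).mp h

/-- Multiplicities on the radical modulo the long root centre. -/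
noncomputable def supp (γ δ α : F) : ℕ :=
  dW ρ ψ [(6, γ), (8, δ), (9, α), (10, (0 : F)), (11, 0)]

theorem inv8 (t : F) {α β : F} {v : V} (hv : v ∈ W ρ ψ [(9, α), (10, β), (11, (0 : F))]) :
    ρ (xg 8 t) v ∈ W ρ ψ [(9, α), (10, β), (11, 0)] := by
  have := map8 ρ ψ t _ _ _ hv
  rwa [mul_zero, sub_zero] at this

theorem inv6 (t : F) {δ α β : F} {v : V}
    (hv : v ∈ W ρ ψ [(8, δ), (9, α), (10, β), (11, (0 : F))]) :
    ρ (xg 6 t) v ∈ W ρ ψ [(8, δ), (9, α), (10, β), (11, 0)] := by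
  refine (mem_W_cons ρ ψ).2 ⟨step_pair ρ ψ hv (Or.inl (by simp [commPairs])) (by simp), ?_⟩
  have := map6 ρ ψ t _ _ _ ((mem_W_cons ρ ψ).1 hv).2
  rwa [mul_zero, sub_zero] at this

theorem sum_supp' (hψ : ψ.IsPrimitive) (α β : F) :
    ∑ δ : F, ∑ γ : F, dW ρ ψ [(6, γ), (8, δ), (9, α), (10, β), (11, (0 : F))] =
      dW ρ ψ [(9, α), (10, β), (11, 0)] := by
  rw [← sum_dW ρ ψ hψ 8 (L := [(9, α), (10, β), (11, (0 : F))]) fun t v hv => inv8 ρ ψ t hv]
  exact Finset.sum_congr rfl fun δ _ => sum_dW ρ ψ hψ 6 fun t v hv => inv6 ρ ψ t hv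

theorem sum_supp (hψ : ψ.IsPrimitive) :
    ∑ p : F × F × F, supp ρ ψ p.2.2 p.2.1 p.1 = dW ρ ψ [(10, (0 : F)), (11, 0)] := by
  rw [Fintype.sum_prod_type, ← sum_dW_pair ρ ψ hψ 9 (L := [(10, (0 : F)), (11, 0)])
    (by simp [commPairs])]
  refine Finset.sum_congr rfl fun α _ => ?_
  rw [Fintype.sum_prod_type]
  exact sum_supp' ρ ψ hψ α 0

theorem supp_tor (l d : Fˣ) (γ δ α : F) :
    supp ρ ψ (γ * (((l ^ 3)⁻¹ * d ^ 2 : Fˣ) : F)) (δ * ((l⁻¹ * d : Fˣ) : F)) (α * (l : F)) =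
      supp ρ ψ γ δ α := by
  have := dW_tor ρ ψ l d [(6, -3, 2, γ), (8, -1, 1, δ), (9, 1, 0, α), (10, 3, -1, (0 : F)),
    (11, 0, 1, 0)] (by simp [chiList])
  simpa [supp, zpow_ofNat] using this

omit [Fintype F] in
theorem exists_pow_ne_one [Finite F] (n : ℕ) (hn : 0 < n) (h : n + 1 < Nat.card F) :
    ∃ l : Fˣ, l ^ n ≠ 1 := by
  classical
  haveI := Fintype.ofFinite F
  by_contra hall
  push Not at hall
  have hdvd := Monoid.exponent_dvd_of_forall_pow_eq_one hall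
  rw [IsCyclic.exponent_eq_card, Nat.card_units] at hdvd
  have := Nat.le_of_dvd hn hdvd
  omega

theorem supp_line (hψ : ψ.IsPrimitive) (h3 : (3 : F) ≠ 0) (hq : 5 ≤ Fintype.card F)
    (hm : mult ρ ψ = 1) {γ : F} (hγ : γ ≠ 0) : supp ρ ψ γ 0 0 = 1 := by
  classical
  let f : F × F → ℕ := fun p => dW ρ ψ [(6, p.2), (8, p.1), (9, (0 : F)), (10, γ), (11, 0)]
  have hsum : ∑ p, f p = 1 := by
    rw [Fintype.sum_prod_type, ← dW_line ρ ψ hψ h3 hm hγ 0, ← sum_supp' ρ ψ hψ 0 γ]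
  obtain ⟨p, hp⟩ : ∃ p, f p ≠ 0 := by
    by_contra h
    push Not at h
    rw [Finset.sum_eq_zero fun p _ => h p] at hsum
    exact zero_ne_one hsum
  have huniq : ∀ p', f p' ≠ 0 → p' = p := by
    intro p' hp'
    by_contra hne
    have h2 := Finset.sum_le_univ_sum_of_nonneg (f := f) (fun _ => Nat.zero_le _) (s := {p, p'})
    rw [Finset.sum_pair (Ne.symm hne), hsum] at h2
    omega
  have htor : ∀ l : Fˣ, f (p.1 * ((l ^ 2 : Fˣ) : F), p.2 * ((l ^ 3 : Fˣ) : F)) = f p := by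
    intro l
    have := dW_tor ρ ψ l (l ^ 3) [(6, -3, 2, p.2), (8, -1, 1, p.1), (9, 1, 0, (0 : F)),
      (10, 3, -1, γ), (11, 0, 1, 0)] (by simp [chiList])
    simp only [List.map_cons, List.map_nil, zero_mul] at this
    have e1 : (l ^ (-1 : ℤ) * (l ^ 3) ^ (1 : ℤ) : Fˣ) = l ^ 2 := by group
    have e2 : (l ^ (-3 : ℤ) * (l ^ 3) ^ (2 : ℤ) : Fˣ) = l ^ 3 := by group
    have e3 : (l ^ (3 : ℤ) * (l ^ 3) ^ (-1 : ℤ) : Fˣ) = 1 := by group
    rw [e1, e2, e3, Units.val_one, mul_one] at this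
    exact this
  have hfix : ∀ l : Fˣ, p.1 * ((l ^ 2 : Fˣ) : F) = p.1 ∧ p.2 * ((l ^ 3 : Fˣ) : F) = p.2 := fun l =>
    Prod.ext_iff.mp (huniq _ (htor l ▸ hp))
  have hp1 : p.1 = 0 := by
    by_contra h
    obtain ⟨l, hl⟩ := exists_pow_ne_one (F := F) 2 two_pos (by rw [Nat.card_eq_fintype_card]; omega)
    exact hl (Units.ext (mul_left_cancel₀ h ((hfix l).1.trans (mul_one _).symm)))
  have hp2 : p.2 = 0 := by
    by_contra h
    obtain ⟨l, hl⟩ := exists_pow_ne_one (F := F) 3 three_pos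
      (by rw [Nat.card_eq_fintype_card]; omega)
    exact hl (Units.ext (mul_left_cancel₀ h ((hfix l).2.trans (mul_one _).symm)))
  have h1 : f (0, 0) = 1 := by
    rw [show ((0, 0) : F × F) = p from Prod.ext hp1.symm hp2.symm]
    have := Finset.single_le_sum (f := f) (fun _ _ => Nat.zero_le _) (Finset.mem_univ p)
    omega
  rw [← h1]
  have hw := dW_weyl ρ ψ 0 [(6, 10, 1, γ), (10, 6, -1, (0 : F)), (8, 9, 1, 0), (9, 8, -1, 0),
    (11, 11, 1, 0)] (by simp [weylList])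
  simp only [List.map_cons, List.map_nil, zero_mul, Int.cast_one, mul_one] at hw
  simp only [f, supp]
  rw [dW_congr ρ ψ (L' := [(6, γ), (10, (0 : F)), (8, 0), (9, 0), (11, 0)]) (fun x => by
    simp only [List.mem_cons, List.not_mem_nil, or_false]; tauto), hw]
  exact dW_congr ρ ψ fun x => by simp only [List.mem_cons, List.not_mem_nil, or_false]; tauto

/-- The dimension once the multiplicity is one. -/
theorem finrank_of_mult_one (hψ : ψ.IsPrimitive) (h3 : (3 : F) ≠ 0) (hm : mult ρ ψ = 1) :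
    finrank ℂ V + Fintype.card F = Fintype.card F ^ 3 + dW ρ ψ [(10, (0 : F)), (11, 0)] := by
  rw [finrank_split ρ ψ hψ h3, hm, mul_one,
    ← sum_dW_pair ρ ψ hψ 10 (L := [(11, (0 : F))]) (by simp [commPairs]),
    sum_ne_zero_add _ fun β hβ => dW_10_0 ρ ψ hψ h3 hm hβ]
  obtain ⟨r, hr⟩ : ∃ r, Fintype.card F = r + 1 :=
    Nat.exists_eq_add_of_le' Fintype.card_pos
  rw [hr, Nat.add_sub_cancel]
  ring

theorem sum_lines [DecidableEq F] (hψ : ψ.IsPrimitive) (h3 : (3 : F) ≠ 0)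
    (hq : 5 ≤ Fintype.card F) (hm : mult ρ ψ = 1) :
    dW ρ ψ [(10, (0 : F)), (11, 0)] = Fintype.card F - 1 + supp ρ ψ 0 0 0 +
      ∑ p ∈ Finset.univ.filter (fun p : F × F × F => p.1 ≠ 0 ∨ p.2.1 ≠ 0),
        supp ρ ψ p.2.2 p.2.1 p.1 := by
  rw [← sum_supp ρ ψ hψ, ← Finset.sum_filter_add_sum_filter_not Finset.univ
    (fun p : F × F × F => p.1 ≠ 0 ∨ p.2.1 ≠ 0), add_comm]
  congr 1
  rw [show Finset.univ.filter (fun p : F × F × F => ¬(p.1 ≠ 0 ∨ p.2.1 ≠ 0)) =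
    Finset.univ.map ⟨fun γ => ((0 : F), (0 : F), γ), fun a b h => congrArg (fun p => p.2.2) h⟩ by
      ext ⟨a, b, c⟩
      simp only [ne_eq, Finset.mem_filter, Finset.mem_univ, true_and, not_or, not_not,
        Finset.mem_map]
      refine ⟨fun h => ⟨c, by rw [h.1, h.2]; rfl⟩, fun ⟨x, hx⟩ => ?_⟩
      exact ⟨(congrArg Prod.fst hx).symm, (congrArg (fun p => p.2.1) hx).symm⟩]
  rw [Finset.sum_map]
  show ∑ γ : F, supp ρ ψ γ 0 0 = _
  rw [sum_ne_zero_add _ fun γ hγ => supp_line ρ ψ hψ h3 hq hm hγ, mul_one, add_comm]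

theorem degree_ge (hψ : ψ.IsPrimitive) (h3 : (3 : F) ≠ 0) (hq : 5 ≤ Fintype.card F)
    (hρ : ρ.IsIrreducible) (hk : 2 ≤ finrank ℂ V) :
    Fintype.card F ^ 3 + 1 ≤ finrank ℂ V ∨
      (mult ρ ψ = 1 ∧ Fintype.card F ^ 3 - 1 ≤ finrank ℂ V) := by
  classical
  have hpos := mult_pos ρ ψ hψ h3 (by omega) hρ hk
  rcases lt_or_ge 1 (mult ρ ψ) with h | h
  · left
    have h1 := finrank_split ρ ψ hψ h3
    have h2 : Fintype.card F ^ 2 * 2 ≤ Fintype.card F ^ 2 * mult ρ ψ := Nat.mul_le_mul_left _ h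
    obtain ⟨r, hr⟩ : ∃ r, Fintype.card F = r + 5 := Nat.exists_eq_add_of_le' hq
    rw [hr] at h1 h2 ⊢
    rw [show r + 5 - 1 = r + 4 by omega] at h1
    nlinarith
  · right
    have hm : mult ρ ψ = 1 := by omega
    refine ⟨hm, ?_⟩
    have h1 := finrank_of_mult_one ρ ψ hψ h3 hm
    rw [sum_lines ρ ψ hψ h3 hq hm] at h1
    omega

/-- Below the bound for `q ≡ 1` nothing lives off the lines. -/
theorem off_zero (hψ : ψ.IsPrimitive) (h3 : (3 : F) ≠ 0) (hq : 5 ≤ Fintype.card F)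
    (hm : mult ρ ψ = 1) (hlt : finrank ℂ V ≤ Fintype.card F ^ 3) :
    supp ρ ψ 0 0 0 ≤ 1 ∧ finrank ℂ V + 1 = Fintype.card F ^ 3 + supp ρ ψ 0 0 0 ∧
      (∀ γ δ α : F, α ≠ 0 ∨ δ ≠ 0 → supp ρ ψ γ δ α = 0) := by
  classical
  have h1 := finrank_of_mult_one ρ ψ hψ h3 hm
  have h2 := sum_lines ρ ψ hψ h3 hq hm
  set S := Finset.univ.filter (fun p : F × F × F => p.1 ≠ 0 ∨ p.2.1 ≠ 0) with hS
  have hz : ∀ γ δ α : F, α ≠ 0 ∨ δ ≠ 0 → supp ρ ψ γ δ α = 0 := by
    intro γ δ α hne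
    by_contra hp
    obtain ⟨l, d, hld⟩ : ∃ l d : Fˣ, α * (l : F) ≠ α ∨ δ * ((l⁻¹ * d : Fˣ) : F) ≠ δ := by
      obtain ⟨u, hu⟩ := exists_pow_ne_one (F := F) 1 one_pos
        (by rw [Nat.card_eq_fintype_card]; omega)
      rw [pow_one] at hu
      by_cases ha : α = 0
      · refine ⟨1, u, Or.inr fun h => hu (Units.ext (mul_left_cancel₀ (hne.resolve_left
          (not_not.mpr ha)) ?_))⟩
        simpa using h
      · exact ⟨u, 1, Or.inl fun h => hu (Units.ext (mul_left_cancel₀ ha (by simpa using h)))⟩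
    set γ' := γ * (((l ^ 3)⁻¹ * d ^ 2 : Fˣ) : F)
    set δ' := δ * ((l⁻¹ * d : Fˣ) : F) with hδ'
    set α' := α * (l : F) with hα'
    have hne' : α' ≠ 0 ∨ δ' ≠ 0 := hne.imp (fun h => mul_ne_zero h l.ne_zero)
      fun h => mul_ne_zero h (Units.ne_zero _)
    have hd : ((α, δ, γ) : F × F × F) ≠ (α', δ', γ') := fun h => by
      simp only [Prod.mk.injEq] at h
      exact hld.elim (fun e => e h.1.symm) fun e => e h.2.1.symm
    have hle := Finset.sum_le_sum_of_subset (f := fun p : F × F × F => supp ρ ψ p.2.2 p.2.1 p.1)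
      (show ({(α, δ, γ), (α', δ', γ')} : Finset (F × F × F)) ⊆ S by
        simp [Finset.insert_subset_iff, hS, hne, hne'])
    rw [Finset.sum_pair hd] at hle
    have he : supp ρ ψ γ' δ' α' = supp ρ ψ γ δ α := supp_tor ρ ψ l d γ δ α
    simp only at hle
    omega
  have hS0 : ∑ p ∈ S, supp ρ ψ p.2.2 p.2.1 p.1 = 0 :=
    Finset.sum_eq_zero fun p hp => hz _ _ _ (Finset.mem_filter.mp hp).2
  refine ⟨by omega, by omega, hz⟩

end CfsgLib.G2MinDeg
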