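import Cfsg.Agent.G2MinDeg.CaseA
import Cfsg.Agent.G2MinDeg.Cells
import Cfsg.Agent.Char.Central

/-!
A vector fixed by the unipotent radical of the Borel subgroup in multiplicity one gives a degree
different from `q³`.
-/

set_option autoImplicit false
set_option linter.style.haveILetI false
set_option linter.unusedSectionVars false

namespace CfsgLib.G2MinDeg

open Module Cfsg.Lie CfsgLib.Chev CfsgLib.Chev.Tab CfsgLib.OreG2 CfsgLib.MinDeg

variable {F : Type*} [Field F] [Fintype F] {V : Type*} [AddCommGroup V] [Module ℂ V]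
  [FiniteDimensional ℂ V] (ρ : Representation ℂ (chevG2.group F) V) (ψ : AddChar F ℂ)

/-- The lines fixed by the five root subgroups of the second radical. -/
def L5 : List (ℕ × F) := [(6, 0), (8, 0), (9, 0), (10, 0), (11, 0)]

/-- The fixed space of the other radical. -/
def Q5 : List (ℕ × F) := [(7, 0), (8, 0), (9, 0), (10, 0), (11, 0)]

/-- The stabiliser of a vector. -/
def fixer (v : V) : Subgroup (chevG2.group F) where
  carrier := {g | ρ g v = v}
  mul_mem' := fun {a b} ha hb => by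
    show ρ (a * b) v = v
    rw [map_mul, Module.End.mul_apply, hb, ha]
  one_mem' := by show ρ 1 v = v; rw [map_one, Module.End.one_apply]
  inv_mem' := fun {a} ha => by
    show ρ a⁻¹ v = v
    conv_lhs => rw [← (ha : ρ a v = v)]
    rw [← Module.End.mul_apply, ← map_mul, inv_mul_cancel, map_one, Module.End.one_apply]

theorem mem_fixer {v : V} {g : chevG2.group F} : g ∈ fixer ρ v ↔ ρ g v = v := Iff.rfl

/-- Carrying eigenspaces by a reflection. -/
theorem maps_weyl (i : Fin 2) (M : List (ℕ × ℕ × ℤ × F))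
    (h : ∀ p ∈ M, (i, p.1, p.2.1, p.2.2.1) ∈ weylList ∧ (p.2.2.1 = 1 ∨ p.2.2.1 = -1)) :
    ∀ v ∈ W ρ ψ (M.map fun p => (p.1, p.2.2.2 * ((p.2.2.1 : ℤ) : F))),
      ρ (nF (F := F) (i : Fin chevG2.rank)) v ∈ W ρ ψ (M.map fun p => (p.2.1, p.2.2.2)) := by
  let sg : ℤ → Fˣ := fun z => if z = 1 then 1 else -1
  have hsg : ∀ z : ℤ, z = 1 ∨ z = -1 → ((sg z : Fˣ) : F) = (z : F) := by
    rintro z (rfl | rfl) <;> simp [sg]
  have := (maps_wt_conj ρ eX ψ (nF (F := F) i)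
    (M.map fun p => (p.1, p.2.1, sg p.2.2.1, p.2.2.2)) (by
      simp only [List.mem_map]
      rintro _ ⟨p, hp, rfl⟩ u
      rw [eX_apply, eX_apply, hsg _ (h p hp).2]
      exact nF_conj (h p hp).1 u)).1
  rw [List.map_map, List.map_map] at this
  intro v hv
  refine this v ?_
  rw [List.map_congr_left (g := fun p => (p.1, p.2.2.2 * ((p.2.2.1 : ℤ) : F))) fun p hp => by
    simp [hsg _ (h p hp).2]]
  exact hv

theorem maps7_L5 (t : F) {v : V} (hv : v ∈ W ρ ψ (L5 (F := F))) :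
    ρ (xg 7 t) v ∈ W ρ ψ (L5 (F := F)) := by
  show ρ (xg 7 t) v ∈ W ρ ψ [(6, (0 : F)), (8, 0), (9, 0), (10, 0), (11, 0)]
  exact (mem_W_cons ρ ψ).2 ⟨step ρ ψ hv (fun u => [(6, 0, u), (8, 0, t * u), (9, 0, t ^ 2 * u),
      (10, 0, -(t ^ 3 * u)), (11, 0, -(t ^ 3 * u ^ 2))]) (fun u => swap76 t u)
      (fun u p hp => by simp [L5] at hp ⊢; rcases hp with rfl | rfl | rfl | rfl | rfl <;> simp)
      (fun u => by simp),
    (mem_W_cons ρ ψ).2 ⟨step ρ ψ hv (fun u => [(8, 0, u), (9, 0, 2 * (t * u)),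
      (10, 0, -(3 * (t ^ 2 * u))), (11, 0, -(3 * (t * u ^ 2)))]) (fun u => swap78 t u)
      (fun u p hp => by simp [L5] at hp ⊢; rcases hp with rfl | rfl | rfl | rfl <;> simp)
      (fun u => by simp),
    (mem_W_cons ρ ψ).2 ⟨step ρ ψ hv (fun u => [(9, 0, u), (10, 0, -(3 * (t * u)))])
      (fun u => swap79 t u)
      (fun u p hp => by simp [L5] at hp ⊢; rcases hp with rfl | rfl <;> simp) (fun u => by simp),
    (mem_W_cons ρ ψ).2 ⟨step_pair ρ ψ hv (Or.inl (by simp [commPairs])) (by simp [L5]),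
    (mem_W_cons ρ ψ).2 ⟨step_pair ρ ψ hv (Or.inl (by simp [commPairs])) (by simp [L5]),
      mem_W_nil ρ ψ⟩⟩⟩⟩⟩

theorem maps6_Q5 (t : F) {v : V} (hv : v ∈ W ρ ψ (Q5 (F := F))) :
    ρ (xg 6 t) v ∈ W ρ ψ (Q5 (F := F)) := by
  show ρ (xg 6 t) v ∈ W ρ ψ [(7, (0 : F)), (8, 0), (9, 0), (10, 0), (11, 0)]
  exact (mem_W_cons ρ ψ).2 ⟨step ρ ψ hv (fun u => [(7, 0, u), (8, 0, -(t * u)), (9, 0, -(t * u ^ 2)),
      (10, 0, t * u ^ 3), (11, 0, -(2 * (t ^ 2 * u ^ 3)))]) (fun u => swap67 t u)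
      (fun u p hp => by simp [Q5] at hp ⊢; rcases hp with rfl | rfl | rfl | rfl | rfl <;> simp)
      (fun u => by simp),
    (mem_W_cons ρ ψ).2 ⟨step_pair ρ ψ hv (Or.inl (by simp [commPairs])) (by simp [Q5]),
    (mem_W_cons ρ ψ).2 ⟨step_pair ρ ψ hv (Or.inl (by simp [commPairs])) (by simp [Q5]),
    (mem_W_cons ρ ψ).2 ⟨by simpa using e610 ρ ψ (β := 0) (c := 0) t hv (by simp [Q5]) (by simp [Q5]),
    (mem_W_cons ρ ψ).2 ⟨step_pair ρ ψ hv (Or.inl (by simp [commPairs])) (by simp [Q5]),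
      mem_W_nil ρ ψ⟩⟩⟩⟩⟩

set_option maxHeartbeats 1000000 in
theorem x7_fix (hψ : ψ.IsPrimitive) (hq : 5 ≤ Fintype.card F) (h1 : dW ρ ψ (L5 (F := F)) = 1)
    {v : V} (hv : v ∈ W ρ ψ (L5 (F := F))) (t : F) : ρ (xg 7 t) v = v := by
  classical
  have hsum := sum_dW ρ ψ hψ 7 (L := L5) fun t v hv => maps7_L5 ρ ψ t hv
  rw [h1] at hsum
  obtain ⟨a, ha⟩ : ∃ a : F, dW ρ ψ ((7, a) :: L5) ≠ 0 := by
    by_contra h
    push Not at h
    rw [Finset.sum_eq_zero fun a _ => h a] at hsum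
    exact zero_ne_one hsum
  have ha0 : a = 0 := by
    by_contra h
    obtain ⟨d, hd⟩ := exists_pow_ne_one (F := F) 1 one_pos (by rw [Nat.card_eq_fintype_card]; omega)
    rw [pow_one] at hd
    have ht := dW_tor ρ ψ 1 d⁻¹ [(7, 2, -1, a), (6, -3, 2, (0 : F)), (8, -1, 1, 0), (9, 1, 0, 0),
      (10, 3, -1, 0), (11, 0, 1, 0)] (by simp [chiList])
    simp only [List.map_cons, List.map_nil, zero_mul, one_zpow, one_mul, zpow_neg, zpow_one,
      inv_inv] at ht
    have h2 := Finset.sum_le_univ_sum_of_nonneg (f := fun a : F => dW ρ ψ ((7, a) :: L5))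
      (fun _ => Nat.zero_le _) (s := {a, a * (d : F)})
    rw [Finset.sum_pair (fun e => hd (Units.ext (mul_left_cancel₀ h
      (e.symm.trans (mul_one a).symm)))), hsum] at h2
    simp only [L5] at h2 ha
    omega
  subst ha0
  have hfull : dW ρ ψ ((7, (0 : F)) :: L5) = dW ρ ψ (L5 (F := F)) := by
    have := dW_cons_le ρ ψ (7, (0 : F)) L5
    omega
  have heq := Submodule.eq_of_le_of_finrank_eq (S₁ := W ρ ψ ((7, (0 : F)) :: L5))
    (S₂ := W ρ ψ (L5 (F := F))) inf_le_right hfull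
  rw [← heq] at hv
  exact (mem_eig_zero ρ eX ψ).1 ((mem_W_cons ρ ψ).1 hv).1 t

theorem xg_fix {v : V} (hv : v ∈ W ρ ψ (L5 (F := F))) {r : ℕ}
    (hr : (r, (0 : F)) ∈ (L5 (F := F))) (t : F) : ρ (xg r t) v = v :=
  ((mem_W ρ ψ).1 hv (r, 0) hr t).trans (by simp)

theorem coe_tor_b (s : Fˣ) :
    ((tor (1 : Fˣ) s : chevG2.group F) : GL chevG2.Idx F) = good_G2.full.hr 6 (s : F) := by
  show G2Data.tab.hT F (tc 1 s) = _
  rw [← single_ib, good_G2.full.hT_single, chk_simple.2]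

theorem coe_tor_a (s : Fˣ) :
    ((tor s (1 : Fˣ) : chevG2.group F) : GL chevG2.Idx F) = good_G2.full.hr 7 (s : F) := by
  show G2Data.tab.hT F (tc s 1) = _
  rw [← single_ia, good_G2.full.hT_single, chk_simple.1]

theorem neg_seven : negR chevG2 7 = 4 := by decide +kernel

theorem nF_a_eq : nF (F := F) ia = xg 7 1 * xg 4 (-1) * xg 7 1 := by
  refine Subtype.ext ?_
  show good_G2.full.nr (chevG2.simple (ia : ℕ)) 1 = _
  rw [chk_simple.1]
  show good_G2.full.x 7 1 * good_G2.full.x (negR chevG2 7) (-1⁻¹) * good_G2.full.x 7 1 = _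
  rw [neg_seven, inv_one]
  rfl

theorem tor_a_eq (s : Fˣ) : tor s (1 : Fˣ) =
    xg 7 (s : F) * xg 4 (-(s : F)⁻¹) * xg 7 (s : F) * (xg 7 (-1) * xg 4 1 * xg 7 (-1)) := by
  refine Subtype.ext ((coe_tor_a s).trans ?_)
  show good_G2.full.nr 7 (s : F) * good_G2.full.nr 7 (-1) = _
  show good_G2.full.x 7 (s : F) * good_G2.full.x (negR chevG2 7) (-(s : F)⁻¹) *
    good_G2.full.x 7 (s : F) * (good_G2.full.x 7 (-1) *
      good_G2.full.x (negR chevG2 7) (-(-1 : F)⁻¹) * good_G2.full.x 7 (-1)) = _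
  rw [neg_seven, inv_neg, inv_one, neg_neg]
  rfl

theorem nF_b_sq : nF (F := F) ib * nF ib = tor 1 (-1) := by
  refine Subtype.ext ?_
  show good_G2.full.ns F (ib : ℕ) * good_G2.full.ns F (ib : ℕ) = _
  rw [good_G2.full.ns_sq ib.isLt, coe_tor_b, chk_simple.2]
  simp

theorem nF_a_sq : nF (F := F) ia * nF ia = tor (-1) 1 := by
  refine Subtype.ext ?_
  show good_G2.full.ns F (ia : ℕ) * good_G2.full.ns F (ia : ℕ) = _
  rw [good_G2.full.ns_sq ia.isLt, coe_tor_a, chk_simple.1]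
  simp

theorem nF_b_opp (t : F) (ht : t ≠ 0) :
    nF (F := F) ib * xg 6 t * nF ib = xg 6 (-t⁻¹) *
      tor 1 (Units.mk0 (-t⁻¹) (neg_ne_zero.mpr (inv_ne_zero ht))) * nF ib * xg 6 (-t⁻¹) := by
  refine Subtype.ext ?_
  have h := (good_G2.rankOne F ib).opp t ht
  change good_G2.full.ns F (ib : ℕ) * good_G2.full.x (chevG2.simple (ib : ℕ)) t *
    good_G2.full.ns F (ib : ℕ) = good_G2.full.x (chevG2.simple (ib : ℕ)) (-t⁻¹) *
      good_G2.full.hr (chevG2.simple (ib : ℕ)) (-t⁻¹) * good_G2.full.ns F (ib : ℕ) *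
      good_G2.full.x (chevG2.simple (ib : ℕ)) (-t⁻¹) at h
  rw [chk_simple.2] at h
  refine h.trans ?_
  simp only [Subgroup.coe_mul, coe_tor_b, Units.val_mk0]
  rfl

/-- Torus, first reflection and the line. -/
theorem line_a (hψ : ψ.IsPrimitive) (hq : 5 ≤ Fintype.card F) (h1 : dW ρ ψ (L5 (F := F)) = 1)
    {v : V} (hv : v ∈ W ρ ψ (L5 (F := F))) (hv0 : v ≠ 0) :
    ρ (nF ia) v = v ∧ ∀ s : Fˣ, ρ (tor s 1) v = v := by
  have hm : ρ (nF ia) v ∈ W ρ ψ (L5 (F := F)) := by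
    have := maps_weyl ρ ψ 0 [(6, 10, 1, (0 : F)), (10, 6, -1, 0), (8, 9, 1, 0), (9, 8, -1, 0),
      (11, 11, 1, 0)] (by simp [weylList]) v
      ((mem_wt ρ eX ψ).2 fun p hp => (mem_wt ρ eX ψ).1 hv p (by simp [L5] at hp ⊢; tauto))
    exact (mem_wt ρ eX ψ).2 fun p hp => (mem_wt ρ eX ψ).1 this p (by simp [L5] at hp ⊢; tauto)
  obtain ⟨ε, hε⟩ := exists_smul_eq_of_finrank_eq_one (K := ℂ) (V := W ρ ψ (L5 (F := F))) h1
    (x := ⟨v, hv⟩) (fun h => hv0 (congrArg Subtype.val h)) ⟨_, hm⟩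
  have hε' : ρ (nF ia) v = ε • v := (congrArg Subtype.val hε).symm
  have hε0 : ε ≠ 0 := fun h => rho_inj ρ hv0 (hε'.trans (by rw [h, zero_smul]))
  have h7 := x7_fix ρ ψ hψ hq h1 hv
  have h4 : ∀ t : F, ρ (xg 4 t) v = v := fun t => by
    have e := nF_conj (F := F) (i := ia) (s := 7) (s' := 4) (ε := -1)
      (show ((0 : Fin 2), 7, 4, (-1 : ℤ)) ∈ weylList by simp [weylList]) (-t)
    rw [Int.cast_neg, Int.cast_one, neg_mul, one_mul, neg_neg] at e
    have e2 : xg 4 t * nF ia = nF ia * xg 7 (-t) := by rw [← e]; group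
    have := congrArg (fun g => ρ g v) e2
    simp only [map_mul, Module.End.mul_apply, hε', map_smul, h7] at this
    exact smul_right_injective V hε0 this
  refine ⟨?_, fun s => ?_⟩
  · rw [nF_a_eq]
    simp only [map_mul, Module.End.mul_apply, h7, h4]
  · rw [tor_a_eq]
    simp only [map_mul, Module.End.mul_apply, h7, h4]

theorem tor_split (l d : Fˣ) : tor l d = tor 1 d * tor l 1 := by rw [tor_mul, one_mul, mul_one]

set_option maxHeartbeats 1000000 in
/-- The second reflection on the line. -/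
theorem line_b (hψ : ψ.IsPrimitive) (hq : 5 ≤ Fintype.card F) (h1 : dW ρ ψ (L5 (F := F)) = 1)
    {v : V} (hv : v ∈ W ρ ψ (L5 (F := F))) (hv0 : v ≠ 0)
    (hnf : ρ (nF ib) v ≠ v ∨ ∃ l d : Fˣ, ρ (tor l d) v ≠ v) :
    (∀ l d : Fˣ, ρ (tor l d) v = v) ∧ ∑ t : F, ρ (xg 6 t) (ρ (nF ib) v) = -v := by
  classical
  obtain ⟨ha, hta⟩ := line_a ρ ψ hψ hq h1 hv hv0
  have hscal : ∀ z ∈ W ρ ψ (L5 (F := F)), ∃ c : ℂ, z = c • v := fun z hz => by
    obtain ⟨c, hc⟩ := exists_smul_eq_of_finrank_eq_one (K := ℂ) (V := W ρ ψ (L5 (F := F))) h1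
      (x := ⟨v, hv⟩) (fun h => hv0 (congrArg Subtype.val h)) ⟨z, hz⟩
    exact ⟨c, (congrArg Subtype.val hc).symm⟩
  -- the character of the torus
  have hμ : ∀ d : Fˣ, ∃ c : ℂ, ρ (tor 1 d) v = c • v := fun d => hscal _ (by
    have := tor_inv_W ρ ψ 1 d [(6, -3, 2, (0 : F)), (8, -1, 1, 0), (9, 1, 0, 0), (10, 3, -1, 0),
      (11, 0, 1, 0)] (by simp [chiList]) (by simp)
    exact this v hv)
  choose μ hμ using hμ
  have hμmul : ∀ a b : Fˣ, μ (a * b) = μ a * μ b := fun a b => smul_left_injective ℂ hv0 (by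
    show μ (a * b) • v = (μ a * μ b) • v
    rw [← hμ, show tor (1 : Fˣ) (a * b) = tor 1 a * tor 1 b by rw [tor_mul, one_mul], map_mul,
      Module.End.mul_apply, hμ, map_smul, hμ, smul_smul, mul_comm (μ b)])
  have hμ1 : μ 1 = 1 := smul_left_injective ℂ hv0 (by
    show μ 1 • v = (1 : ℂ) • v
    rw [← hμ, tor_one, map_one, Module.End.one_apply, one_smul])
  have hμl : ∀ l d : Fˣ, ρ (tor l d) v = μ d • v := fun l d => by
    rw [tor_split, map_mul, Module.End.mul_apply, hta, hμ]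
  -- the vector in the other radical
  set z := ρ (nF ib) v with hz
  have hzQ : z ∈ W ρ ψ (Q5 (F := F)) := by
    have hv7 : v ∈ W ρ ψ [(7, (0 : F)), (8, 0), (9, 0), (10, 0), (11, 0)] :=
      (mem_W_cons ρ ψ).2 ⟨(mem_eig_zero ρ eX ψ).2 (x7_fix ρ ψ hψ hq h1 hv),
        ((mem_W_cons ρ ψ).1 hv).2⟩
    have := maps_weyl ρ ψ 1 [(7, 8, 1, (0 : F)), (8, 7, -1, 0), (9, 9, 1, 0), (10, 11, 1, 0),
      (11, 10, -1, 0)] (by simp [weylList]) v
      ((mem_wt ρ eX ψ).2 fun p hp => (mem_wt ρ eX ψ).1 hv7 p (by simp at hp ⊢; tauto))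
    exact (mem_wt ρ eX ψ).2 fun p hp => (mem_wt ρ eX ψ).1 this p (by simp [Q5] at hp ⊢; tauto)
  set S := ∑ t : F, ρ (xg 6 t) z with hS
  have hshift : ∀ (u : F) (y : V), ρ (xg 6 u) (∑ t : F, ρ (xg 6 t) y) = ∑ t : F, ρ (xg 6 t) y :=
    fun u y => by
      rw [map_sum]
      refine Fintype.sum_equiv (Equiv.addLeft u) _ _ fun t => ?_
      rw [← Module.End.mul_apply, ← map_mul, xg_add]
      rfl
  have habsorb : ∀ (u : F) (y : V),
      ∑ t : F, ρ (xg 6 t) (ρ (xg 6 u) y) = ∑ t : F, ρ (xg 6 t) y := fun u y => by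
    refine Fintype.sum_equiv (Equiv.addRight u) _ _ fun t => ?_
    rw [← Module.End.mul_apply, ← map_mul, xg_add]
    rfl
  obtain ⟨c, hc⟩ : ∃ c : ℂ, S = c • v := hscal _ (by
    have hSQ : S ∈ W ρ ψ (Q5 (F := F)) :=
      Submodule.sum_mem _ fun t _ => maps6_Q5 ρ ψ t hzQ
    exact (mem_W_cons ρ ψ).2 ⟨(mem_eig_zero ρ eX ψ).2 fun u => hshift u z,
      ((mem_W_cons ρ ψ).1 hSQ).2⟩)
  let f : F → ℂ := fun s => if h : s = 0 then 0 else μ (Units.mk0 s h)⁻¹
  -- the quadratic relation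
  have hE : μ (-1) • v + ∑ s ∈ (Finset.univ.erase (0 : F)), f s • ρ (xg 6 s) z = c • z := by
    have h2 : c • z = ∑ t : F, ρ (nF ib * xg 6 t * nF ib) v := by
      rw [hz, ← map_smul, ← hc, hS, map_sum]
      simp only [map_mul, Module.End.mul_apply, hz]
    rw [h2, ← Finset.add_sum_erase Finset.univ (fun t => ρ (nF ib * xg 6 t * nF ib) v)
      (Finset.mem_univ (0 : F)), xg_zero, mul_one, nF_b_sq, hμ]
    congr 1
    refine Finset.sum_bij' (fun s _ => -s⁻¹) (fun t _ => -t⁻¹) (fun s hs => ?_) (fun t ht => ?_)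
      (fun s _ => by simp [inv_neg]) (fun t _ => by simp [inv_neg]) fun s hs => ?_
    · exact Finset.mem_erase.mpr ⟨by simpa using Finset.ne_of_mem_erase hs, Finset.mem_univ _⟩
    · exact Finset.mem_erase.mpr ⟨by simpa using Finset.ne_of_mem_erase ht, Finset.mem_univ _⟩
    have hs0 : s ≠ 0 := Finset.ne_of_mem_erase hs
    have e1 : -(-s⁻¹)⁻¹ = s := by simp [inv_neg]
    have e3 : tor (1 : Fˣ) (Units.mk0 s hs0) * nF ib =
        nF ib * tor (1 : Fˣ) (Units.mk0 s hs0)⁻¹ := by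
      rw [nF_tor_b, one_pow, one_mul, inv_inv]
    simp only [nF_b_opp (-s⁻¹) (by simpa using hs0), e1, map_mul, Module.End.mul_apply,
      xg_fix ρ ψ hv (r := 6) (by simp [L5]), f, dif_neg hs0]
    rw [← Module.End.mul_apply (ρ (tor _ _)), ← map_mul, e3, map_mul, Module.End.mul_apply, hμ]
    simp only [hz, map_smul]
  have hc0 : c ≠ 0 := by
    rintro rfl
    rw [zero_smul] at hc hE
    have := congrArg (fun y => ∑ u : F, ρ (xg 6 u) y) hE
    simp only [map_add, map_sum, map_smul, map_zero, Finset.sum_add_distrib,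
      Finset.sum_const_zero] at this
    rw [Finset.sum_comm, Finset.sum_eq_zero (s := Finset.univ.erase (0 : F)) (fun s _ => by
      rw [← Finset.smul_sum, habsorb, ← hS, hc, smul_zero]), add_zero, ← Finset.smul_sum] at this
    rw [Finset.sum_congr rfl fun u _ => xg_fix ρ ψ hv (r := 6) (by simp [L5]) u, Finset.sum_const,
      Finset.card_univ, ← Nat.cast_smul_eq_nsmul ℂ, smul_smul] at this
    refine hv0 ((smul_eq_zero.mp this).resolve_left (mul_ne_zero ?_ (by simp)))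
    exact fun h => rho_inj ρ hv0 ((hμ (-1)).trans (by rw [h, zero_smul]))
  have htriv : ∀ d : Fˣ, μ d = 1 := by
    have key : ∀ l d : Fˣ, μ d = μ (l ^ 3 * d⁻¹) := fun l d => by
      have hχ : ∀ t : F, tor l d * xg 6 t =
          xg 6 (((l ^ (-3 : ℤ) * d ^ (2 : ℤ) : Fˣ) : F) * t) * tor l d := fun t => by
        rw [← tor_conj (by simp [chiList]) l d t]; group
      have hn : tor l d * nF ib = nF ib * tor l (l ^ 3 * d⁻¹) := by
        rw [nF_tor_b, mul_inv_rev, inv_inv, ← mul_assoc, mul_comm (l ^ 3) d,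
          mul_inv_cancel_right]
      have e : ρ (tor l d) S = μ (l ^ 3 * d⁻¹) • S := by
        rw [hS, map_sum, Finset.smul_sum]
        refine Fintype.sum_equiv (Equiv.mulLeft₀ (((l ^ (-3 : ℤ) * d ^ (2 : ℤ) : Fˣ) : F))
          (Units.ne_zero _)) _ _ fun t => ?_
        rw [← Module.End.mul_apply, ← map_mul, hχ, map_mul, Module.End.mul_apply, hz,
          ← Module.End.mul_apply (ρ (tor l d)), ← map_mul, hn, map_mul, Module.End.mul_apply, hμl,
          map_smul, map_smul]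
        rfl
      rw [hc, map_smul, hμl, smul_smul, smul_smul] at e
      exact mul_left_cancel₀ hc0 ((smul_left_injective ℂ hv0 e).trans (mul_comm _ _))
    intro d
    have h2 : μ d * μ d = 1 := by
      nth_rw 2 [key 1 d]
      rw [one_pow, one_mul, ← hμmul, mul_inv_cancel, hμ1]
    have h3 : μ (d * d * d) = 1 := by
      have := key d 1
      rw [hμ1, inv_one, mul_one, pow_succ, pow_two] at this
      exact this.symm
    rw [hμmul, hμmul, h2, one_mul] at h3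
    exact h3
  have hT : ∀ l d : Fˣ, ρ (tor l d) v = v := fun l d => by rw [hμl, htriv, one_smul]
  refine ⟨hT, ?_⟩
  have hnf' : ρ (nF ib) v ≠ v := hnf.resolve_right fun ⟨l, d, h⟩ => h (hT l d)
  have h5 : (1 + c) • v = (1 + c) • z := by
    rw [htriv, one_smul, Finset.sum_congr rfl (g := fun s => ρ (xg 6 s) z) (fun s hs => by
      simp only [f]
      rw [dif_neg (Finset.ne_of_mem_erase hs), htriv, one_smul])] at hE
    have hsplit := Finset.add_sum_erase Finset.univ (fun s => ρ (xg 6 s) z)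
      (Finset.mem_univ (0 : F))
    rw [← hS, hc, xg_zero, map_one, Module.End.one_apply] at hsplit
    rw [add_smul, add_smul, one_smul, one_smul, ← hE, ← hsplit]
    abel
  have hc1 : c = -1 := by
    by_contra h
    exact hnf' (smul_right_injective V (fun e => h (eq_neg_of_add_eq_zero_right e)) h5).symm
  rw [hc, hc1, neg_one_smul]

end CfsgLib.G2MinDeg
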