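import Cfsg.Agent.G2MinDeg.Hecke

/-!
The degree `q³` does not occur.
-/

set_option autoImplicit false
set_option linter.style.haveILetI false
set_option linter.unusedSectionVars false

namespace CfsgLib.G2MinDeg

open Module Cfsg.Lie CfsgLib.Chev CfsgLib.Chev.Tab CfsgLib.OreG2 CfsgLib.MinDeg

variable {F : Type*} [Field F] [Fintype F] {V : Type*} [AddCommGroup V] [Module ℂ V]
  [FiniteDimensional ℂ V] (ρ : Representation ℂ (chevG2.group F) V) (ψ : AddChar F ℂ)

theorem xg_mem_borel {r : ℕ} (hr : IsPos chevG2 r) (t : F) : xg r t ∈ borelG (F := F) :=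
  Subgroup.mem_subgroupOf.mpr (Subgroup.mem_sup_left (good_G2.x_mem_pos hr t))

theorem pos_of_le {r : ℕ} (h : 6 ≤ r) (h' : r < 12) : IsPos chevG2 r :=
  ⟨by rw [nroots_eq]; exact h', by rw [nroots_eq]; omega⟩

theorem pos_cases {r : ℕ} (h : IsPos chevG2 r) :
    r = 6 ∨ r = 7 ∨ r = 8 ∨ r = 9 ∨ r = 10 ∨ r = 11 := by
  obtain ⟨h1, h2⟩ := h
  rw [nroots_eq] at h1 h2
  omega

theorem borel_fix {v : V} (h : ∀ r, IsPos chevG2 r → ∀ t : F, ρ (xg r t) v = v)
    (ht : ∀ l d : Fˣ, ρ (tor l d) v = v) {b : chevG2.group F} (hb : b ∈ borelG (F := F)) :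
    ρ b v = v := by
  obtain ⟨u, hu, c, e⟩ := good_G2.mem_borel.mp (Subgroup.mem_subgroupOf.mp hb)
  have hle : chevG2.posUnipotent F ≤ (fixer ρ v).map (chevG2.group F).subtype := by
    rw [good_G2.posUnipotent_eq]
    refine (Subgroup.closure_le _).mpr ?_
    rintro _ ⟨r, hr, t, rfl⟩
    exact ⟨xg r t, h r hr t, rfl⟩
  obtain ⟨u', hu', rfl⟩ := hle hu
  have hb' : b = u' * tor (c ia) (c ib) := Subtype.ext (by
    rw [e, Subgroup.coe_mul]
    show _ = _ * G2Data.tab.hT F (tc (c ia) (c ib))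
    rw [← tc_eq]
    rfl)
  rw [hb', map_mul, Module.End.mul_apply, ht]
  exact hu'

theorem nF_cases (i : Fin chevG2.rank) : i = ia ∨ i = ib := by
  obtain ⟨i, hi⟩ := i
  have : i = 0 ∨ i = 1 := by
    have : chevG2.rank = 2 := rfl
    omega
  rcases this with rfl | rfl
  · exact Or.inl rfl
  · exact Or.inr rfl

theorem tor_nW_fix : ∀ (w : List (Fin chevG2.rank)) {v : V},
    (∀ l d : Fˣ, ρ (tor l d) v = v) → ∀ l d : Fˣ, ρ (tor l d) (ρ (nW w) v) = ρ (nW w) v
  | [], v, hv => fun l d => by simp [nW, hv]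
  | i :: w, v, hv => fun l d => by
    have e : nW (F := F) (i :: w) = nF i * nW w := rfl
    obtain ⟨l', d', hc⟩ : ∃ l' d', tor l d * nF i = nF i * tor l' d' := by
      rcases nF_cases i with rfl | rfl
      · exact ⟨d * l⁻¹, d, by rw [nF_tor_a, mul_inv_rev, inv_inv, mul_comm l, ← mul_assoc,
          mul_inv_cancel, one_mul]⟩
      · exact ⟨l, l ^ 3 * d⁻¹, by rw [nF_tor_b, mul_inv_rev, inv_inv, mul_comm d,
          mul_inv_cancel_left]⟩
    rw [e, map_mul, Module.End.mul_apply, ← Module.End.mul_apply (ρ (tor l d)), ← map_mul, hc,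
      map_mul, Module.End.mul_apply, tor_nW_fix w hv]

theorem nF_inv_fix (i : Fin chevG2.rank) {v : V} (hv : ∀ l d : Fˣ, ρ (tor l d) v = v) :
    ρ (nF i)⁻¹ v = ρ (nF i) v := by
  have hsq : ρ (nF i * nF i) v = v := by
    rcases nF_cases i with rfl | rfl
    · rw [nF_a_sq]; exact hv _ _
    · rw [nF_b_sq]; exact hv _ _
  conv_lhs => rw [← hsq]
  rw [← Module.End.mul_apply, ← map_mul, inv_mul_cancel_left]

theorem nW_inv_fix : ∀ (w : List (Fin chevG2.rank)) {v : V},
    (∀ l d : Fˣ, ρ (tor l d) v = v) → ρ (nW w)⁻¹ v = ρ (nW w.reverse) v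
  | [], v, _ => by simp [nW]
  | i :: w, v, hv => by
    have e : nW (F := F) (i :: w) = nF i * nW w := rfl
    have hn : ∀ l d : Fˣ, ρ (tor l d) (ρ (nF i) v) = ρ (nF i) v := by
      have := tor_nW_fix ρ [i] hv
      simpa [nW] using this
    rw [e, mul_inv_rev, map_mul, Module.End.mul_apply, nF_inv_fix ρ i hv, nW_inv_fix w hn,
      List.reverse_cons, nW_append, map_mul, Module.End.mul_apply]
    simp [nW]

theorem split_pos {w : List (Fin chevG2.rank)}
    (h : ∀ j : Fin w.length, (w.get j).val = 1 →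
      IsPos chevG2 (G2Data.tab.wordT ((w.take j).map Fin.val) 6))
    (p s : List (Fin chevG2.rank)) (e : w = p ++ ib :: s) :
    IsPos chevG2 (G2Data.tab.wordT (p.map Fin.val) 6) := by
  subst e
  have := h ⟨p.length, by simp⟩ (by simp)
  simpa using this

theorem conj_mem_borel {w : List (Fin chevG2.rank)}
    (h : IsPos chevG2 (G2Data.tab.wordT (w.map Fin.val) 6)) (t : F) :
    nW w * xg 6 t * (nW w)⁻¹ ∈ borelG (F := F) := by
  obtain ⟨c, hc⟩ := good_G2.rootAct_nw (F := F) w
  have h6 : 6 < chevG2.nroots := by rw [nroots_eq]; norm_num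
  have e : ((nW w * xg 6 t * (nW w)⁻¹ : chevG2.group F) : GL chevG2.Idx F) =
      good_G2.full.nw F w * good_G2.full.x 6 t * (good_G2.full.nw F w)⁻¹ := by
    rw [Subgroup.coe_mul, Subgroup.coe_mul, Subgroup.coe_inv, coe_nW]
    rfl
  have hp : IsPos chevG2 (good_G2.full.pw w ⟨6, h6⟩).val := by rw [good_G2.pw_apply]; exact h
  refine Subgroup.mem_subgroupOf.mpr (Subgroup.mem_sup_left ?_)
  rw [e]
  exact ((hc ⟨6, h6⟩).2.2.2 t).symm ▸ good_G2.x_mem_pos hp _

/-- The value of the averaged operator on the translates of the line by reflections. -/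
theorem avg_word (P : Module.End ℂ V) (hP : ∀ b ∈ borelG (F := F), ∀ x, P (ρ b x) = P x) {v : V}
    (hPv : P v = v) (ha : ρ (nF ia) v = v)
    (hb : ∑ t : F, ρ (xg 6 t) (ρ (nF ib) v) = -v) :
    ∀ w : List (Fin chevG2.rank), (∀ p s, w = p ++ ib :: s →
      IsPos chevG2 (G2Data.tab.wordT (p.map Fin.val) 6)) →
      P (ρ (nW w) v) = (-((Fintype.card F : ℂ))⁻¹) ^ longs w • v := by
  intro w
  induction w using List.reverseRecOn with
  | nil => intro _; simp [nW, longs, hPv]
  | append_singleton p i ih =>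
    intro hw
    have hp := ih fun p' s e => hw p' (s ++ [i]) (by rw [e]; simp)
    have e1 : nW (F := F) (p ++ [i]) = nW p * nF i := by rw [nW_append]; simp [nW]
    rcases nF_cases i with rfl | rfl
    · rw [e1, map_mul, Module.End.mul_apply, ha, hp]
      simp [longs, ia]
    · have hpos := hw p [] rfl
      have hshift : ∀ (t : F) (x : V), P (ρ (nW p) (ρ (xg 6 t) x)) = P (ρ (nW p) x) := fun t x => by
        rw [← Module.End.mul_apply (ρ (nW p)), ← map_mul,
          show nW p * xg 6 t = nW p * xg 6 t * (nW p)⁻¹ * nW p by group, map_mul,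
          Module.End.mul_apply, hP _ (conj_mem_borel hpos t)]
      have h := congrArg (fun x => P (ρ (nW p) x)) hb
      simp only [map_sum, map_neg, hshift, Finset.sum_const, Finset.card_univ, hp] at h
      rw [← Nat.cast_smul_eq_nsmul ℂ] at h
      rw [e1, map_mul, Module.End.mul_apply]
      have hq : (Fintype.card F : ℂ) ≠ 0 := by simp
      have e2 : P (ρ (nW p) (ρ (nF ib) v)) =
          (Fintype.card F : ℂ)⁻¹ • ((Fintype.card F : ℂ) • P (ρ (nW p) (ρ (nF ib) v))) := by
        rw [smul_smul, inv_mul_cancel₀ hq, one_smul]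
      rw [e2, h, smul_neg, smul_smul, ← neg_smul]
      congr 1
      rw [show longs (p ++ [ib]) = longs p + 1 by simp [longs, ib], pow_succ]
      ring

theorem not_q_cube (hψ : ψ.IsPrimitive) (hq : 5 ≤ Fintype.card F) (hρ : ρ.IsIrreducible)
    (h1 : supp ρ ψ 0 0 0 = 1) : finrank ℂ V ≠ Fintype.card F ^ 3 := by
  intro hk
  classical
  haveI := hρ
  haveI := finite_group (F := F)
  haveI := Fintype.ofFinite (chevG2.group F)
  have h5 : dW ρ ψ (L5 (F := F)) = 1 := h1
  haveI : Nontrivial (W ρ ψ (L5 (F := F))) :=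
    Module.nontrivial_of_finrank_pos (R := ℂ) (by rw [show finrank ℂ (W ρ ψ L5) = 1 from h5]; norm_num)
  obtain ⟨⟨v, hv⟩, hv0'⟩ := exists_ne (0 : W ρ ψ (L5 (F := F)))
  have hv0 : v ≠ 0 := fun h => hv0' (Subtype.ext h)
  have h7 := x7_fix ρ ψ hψ hq h5 hv
  have hpos : ∀ r, IsPos chevG2 r → ∀ t : F, ρ (xg r t) v = v := by
    intro r hr t
    rcases pos_cases hr with rfl | rfl | rfl | rfl | rfl | rfl
    all_goals first | exact h7 t | exact xg_fix ρ ψ hv (by simp [L5]) t
  obtain ⟨ha, -⟩ := line_a ρ ψ hψ hq h5 hv hv0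
  have hnf : ρ (nF ib) v ≠ v ∨ ∃ l d : Fˣ, ρ (tor l d) v ≠ v := by
    by_contra hcon
    push Not at hcon
    obtain ⟨hb, ht⟩ := hcon
    have hn : ∀ w : List (Fin chevG2.rank), ρ (nW w) v = v := by
      intro w
      induction w with
      | nil => simp [nW]
      | cons i w ih =>
        rw [show nW (F := F) (i :: w) = nF i * nW w from rfl, map_mul, Module.End.mul_apply, ih]
        rcases nF_cases i with rfl | rfl <;> assumption
    have hall : ∀ g, ρ g v = v := fun g => by
      obtain ⟨⟨σ, b, u⟩, rfl⟩ := (cellMap_bijective (F := F)).2 g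
      rw [cellMap, map_mul, Module.End.mul_apply, borel_fix ρ hpos ht (cellU_borel σ u), map_mul,
        Module.End.mul_apply, hn, borel_fix ρ hpos ht b.2]
    let S : Subrepresentation ρ :=
      ⟨Submodule.span ℂ {v}, fun g w hw => by
        obtain ⟨c, rfl⟩ := Submodule.mem_span_singleton.mp hw
        rw [map_smul, hall]
        exact Submodule.smul_mem _ _ (Submodule.mem_span_singleton_self v)⟩
    have h2 := finrank_span_singleton (K := ℂ) hv0
    rcases (IsSimpleOrder.eq_bot_or_eq_top S) with e | e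
    · have h3 : v ∈ S.toSubmodule := Submodule.mem_span_singleton_self v
      rw [e] at h3
      exact hv0 ((Submodule.mem_bot ℂ).1 h3)
    · rw [show Submodule.span ℂ {v} = (⊤ : Submodule ℂ V) from congrArg (·.toSubmodule) e,
        finrank_top, hk] at h2
      have : 125 ≤ Fintype.card F ^ 3 := by
        calc 125 = 5 ^ 3 := by norm_num
          _ ≤ _ := Nat.pow_le_pow_left hq 3
      omega
  obtain ⟨ht, hsum⟩ := line_b ρ ψ hψ hq h5 hv hv0 hnf
  have hfix : ∀ b ∈ borelG (F := F), ρ b v = v := fun b hb => borel_fix ρ hpos ht hb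
  -- the average over the Borel subgroup
  let N : ℂ := (Nat.card (borelG (F := F)) : ℂ)
  have hN : N ≠ 0 := Nat.cast_ne_zero.mpr Nat.card_pos.ne'
  let P : Module.End ℂ V := N⁻¹ • ∑ b : borelG (F := F), ρ (b : chevG2.group F)
  have hPmem : ∀ x, P x ∈ W ρ ψ (L5 (F := F)) := by
    intro x
    rw [mem_W]
    intro p hp u
    have hr : IsPos chevG2 p.1 ∧ p.2 = 0 := by
      simp [L5] at hp
      rcases hp with rfl | rfl | rfl | rfl | rfl <;> exact ⟨pos_of_le (by norm_num) (by norm_num), rfl⟩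
    rw [hr.2, zero_mul, AddChar.map_zero_eq_one, one_smul]
    simp only [P, LinearMap.smul_apply, LinearMap.sum_apply, map_smul, map_sum]
    congr 1
    refine Fintype.sum_equiv (Equiv.mulLeft ⟨xg p.1 u, xg_mem_borel hr.1 u⟩) _ _ fun b => ?_
    rw [← Module.End.mul_apply, ← map_mul]
    rfl
  have hPb : ∀ b ∈ borelG (F := F), ∀ x, P (ρ b x) = P x := by
    intro b hb x
    simp only [P, LinearMap.smul_apply, LinearMap.sum_apply]
    congr 1
    refine Fintype.sum_equiv (Equiv.mulRight ⟨b, hb⟩) _ _ fun c => ?_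
    rw [← Module.End.mul_apply, ← map_mul]
    rfl
  have hPv : P v = v := by
    simp only [P, LinearMap.smul_apply, LinearMap.sum_apply]
    rw [Finset.sum_congr rfl fun (b : borelG (F := F)) _ => hfix b b.2, Finset.sum_const,
      Finset.card_univ, ← Nat.card_eq_fintype_card, ← Nat.cast_smul_eq_nsmul ℂ, smul_smul,
      inv_mul_cancel₀ hN, one_smul]
  have hPW : ∀ x ∈ W ρ ψ (L5 (F := F)), P x = x := fun x hx => by
    obtain ⟨c, hc⟩ := exists_smul_eq_of_finrank_eq_one (K := ℂ) (V := W ρ ψ (L5 (F := F))) h5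
      (x := ⟨v, hv⟩) hv0' ⟨x, hx⟩
    have hc' : x = c • v := (congrArg Subtype.val hc).symm
    rw [hc', map_smul, hPv]
  have htr : LinearMap.trace ℂ V P = 1 := by
    rw [LinearMap.IsProj.trace ⟨hPmem, hPW⟩, show finrank ℂ (W ρ ψ L5) = 1 from h5, Nat.cast_one]
  -- the central operator
  set A : Module.End ℂ V := ∑ g : chevG2.group F, ρ g * P * ρ g⁻¹ with hA
  have hcomm : ∀ g, ρ g * A = A * ρ g := fun g => by
    rw [hA, Finset.mul_sum, Finset.sum_mul]
    refine Fintype.sum_equiv (Equiv.mulLeft g) _ _ fun h => ?_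
    rw [Equiv.coe_mulLeft, mul_inv_rev, map_mul, map_mul]
    simp only [mul_assoc]
    rw [← map_mul ρ g⁻¹, inv_mul_cancel, map_one, mul_one]
  have htrA : LinearMap.trace ℂ V A = (Nat.card (chevG2.group F) : ℂ) := by
    rw [hA, map_sum, Finset.sum_congr rfl fun g _ => (LinearMap.trace_mul_comm ℂ (ρ g * P) (ρ g⁻¹)).trans
      (by rw [← mul_assoc, ← map_mul, inv_mul_cancel, map_one, one_mul, htr]), Finset.sum_const,
      Finset.card_univ, nsmul_one, Nat.card_eq_fintype_card]
  have hA1 := CfsgLib.Char.eq_smul_one_of_commute ρ A hcomm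
  rw [htrA] at hA1
  -- its value on the line
  set q : ℂ := (Fintype.card F : ℂ)
  have hval : ∀ σ : CellWord, ∀ (b : borelG (F := F)) (u : cellU F σ),
      P (ρ (cellMap ⟨σ, (b, u)⟩) (P (ρ (cellMap ⟨σ, (b, u)⟩)⁻¹ v))) =
        (q⁻¹ ^ (2 * longs σ.1)) • v := by
    intro σ b u
    have hσ := List.mem_toFinset.mp σ.2
    have hu := cellU_borel σ u
    have e1 := avg_word ρ P hPb hPv ha hsum σ.1 (split_pos (words_pos σ.1 hσ))
    have e2 := avg_word ρ P hPb hPv ha hsum σ.1.reverse (split_pos (words_pos_reverse σ.1 hσ))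
    rw [show longs σ.1.reverse = longs σ.1 from List.countP_reverse] at e2
    rw [cellMap, mul_inv_rev, mul_inv_rev, map_mul, map_mul, map_mul, map_mul,
      Module.End.mul_apply, Module.End.mul_apply, Module.End.mul_apply, Module.End.mul_apply,
      hfix _ (inv_mem b.2), nW_inv_fix ρ σ.1 ht, hPb _ (inv_mem hu), e2]
    simp only [map_smul]
    rw [hfix _ hu, hPb _ b.2, e1, smul_smul, ← pow_add, ← two_mul, pow_mul, pow_mul, neg_sq]
  have hlhs : P (A v) = ((Nat.card (chevG2.group F) : ℂ) / (finrank ℂ V : ℂ)) • v := by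
    rw [show A v = ((Nat.card (chevG2.group F) : ℂ) / (finrank ℂ V : ℂ)) • v by rw [hA1]; rfl,
      map_smul, hPv]
  let e := Equiv.ofBijective _ (cellMap_bijective (F := F))
  haveI : ∀ σ : CellWord, Finite (cellU F σ) := fun σ => by
    haveI := OreG2.finite_GL (F := F)
    infer_instance
  haveI : ∀ σ : CellWord, Fintype (cellU F σ) := fun σ => Fintype.ofFinite _
  have hrhs : P (A v) = (N * ∑ σ : CellWord,
      q ^ σ.1.length * q⁻¹ ^ (2 * longs σ.1)) • v := by
    rw [hA, LinearMap.sum_apply, map_sum]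
    simp only [Module.End.mul_apply]
    rw [← e.sum_comp, Fintype.sum_sigma, Finset.mul_sum, Finset.sum_smul]
    refine Finset.sum_congr rfl fun σ _ => ?_
    rw [Finset.sum_congr rfl fun (p : borelG (F := F) × cellU F σ) _ =>
      show P (ρ (e ⟨σ, p⟩) (P (ρ (e ⟨σ, p⟩)⁻¹ v))) = _ from hval σ p.1 p.2,
      Finset.sum_const, Finset.card_univ, ← Nat.card_eq_fintype_card, Nat.card_prod, card_cellU,
      ← Nat.cast_smul_eq_nsmul ℂ, smul_smul, Nat.cast_mul, Nat.cast_pow, mul_assoc]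
  have hcard : (Nat.card (chevG2.group F) : ℂ) = N * ∑ σ : CellWord, q ^ σ.1.length := by
    rw [← Nat.card_congr e, Nat.card_sigma, Finset.mul_sum, Nat.cast_sum]
    refine Finset.sum_congr rfl fun σ _ => ?_
    rw [Nat.card_prod, card_cellU, Nat.cast_mul, Nat.cast_pow]
  have heq := smul_left_injective ℂ hv0 (hlhs.symm.trans hrhs)
  simp only [hcard, hk, Nat.cast_pow] at heq
  rw [mul_div_assoc] at heq
  have heq' := mul_left_cancel₀ hN heq
  rw [sum_words (fun l _ => q ^ l), sum_words (fun l m => q ^ l * q⁻¹ ^ (2 * m)), words_shape]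
    at heq'
  simp only [List.map_cons, List.map_nil, List.sum_cons, List.sum_nil] at heq'
  have hq0 : (Fintype.card F : ℂ) ≠ 0 := by simp
  simp only [q, Nat.reduceMul, pow_zero, mul_one, inv_pow] at heq'
  field_simp at heq'
  have key : Fintype.card F ^ 6 + 2 * Fintype.card F ^ 5 + 2 * Fintype.card F ^ 4 +
      2 * Fintype.card F ^ 3 + 2 * Fintype.card F ^ 2 + 2 * Fintype.card F + 1 =
      3 * Fintype.card F ^ 4 + 6 * Fintype.card F ^ 3 + 3 * Fintype.card F ^ 2 := by
    have : (((Fintype.card F ^ 6 + 2 * Fintype.card F ^ 5 + 2 * Fintype.card F ^ 4 +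
        2 * Fintype.card F ^ 3 + 2 * Fintype.card F ^ 2 + 2 * Fintype.card F + 1 : ℕ)) : ℂ) =
        ((3 * Fintype.card F ^ 4 + 6 * Fintype.card F ^ 3 + 3 * Fintype.card F ^ 2 : ℕ) : ℂ) := by
      push_cast
      linear_combination heq'
    exact_mod_cast this
  have h25 : 5 * Fintype.card F ^ 5 ≤ Fintype.card F ^ 6 := by
    rw [pow_succ _ 5, mul_comm]
    exact Nat.mul_le_mul_left _ hq
  have h26 : 5 * Fintype.card F ^ 4 ≤ Fintype.card F ^ 5 := by
    rw [pow_succ _ 4, mul_comm]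
    exact Nat.mul_le_mul_left _ hq
  have h27 : 5 * Fintype.card F ^ 3 ≤ Fintype.card F ^ 4 := by
    rw [pow_succ _ 3, mul_comm]
    exact Nat.mul_le_mul_left _ hq
  have h28 : 5 * Fintype.card F ^ 2 ≤ Fintype.card F ^ 3 := by
    rw [pow_succ _ 2, mul_comm]
    exact Nat.mul_le_mul_left _ hq
  omega

end CfsgLib.G2MinDeg
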