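import Cfsg.Agent.G2MinDeg.Three

/-!
The bound `q⁴ + q² + 1` in characteristic three.
-/

set_option autoImplicit false
set_option linter.style.haveILetI false
set_option linter.unusedSectionVars false

namespace CfsgLib.G2MinDeg

open Module Cfsg.Lie CfsgLib.MinDeg

variable {F : Type*} [Field F] [Fintype F] {V : Type*} [AddCommGroup V] [Module ℂ V]
  [FiniteDimensional ℂ V] (ρ : Representation ℂ (chevG2.group F) V) (ψ : AddChar F ℂ)

/-- The fixed space of the second radical. -/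
noncomputable def n0 : ℕ := sf ρ ψ 0 0 0 0

theorem T1_eq (hψ : ψ.IsPrimitive) (h : (3 : F) = 0) {w : F} (hw : w ≠ 0) :
    ∑ u : F, mf ρ ψ w 0 u 0 = m1' ρ ψ + (Fintype.card F - 1) * m2 ρ ψ := by
  rw [sum10 ρ ψ hψ, swap_a, ← sum10 ρ ψ hψ,
    sum_ne_zero_add _ fun u hu => mf_short ρ ψ hψ h hw hu 0, mf_short0 ρ ψ h hw]

theorem T2_eq (hψ : ψ.IsPrimitive) (h : (3 : F) = 0) {u : F} (hu : u ≠ 0) :
    ∑ w : F, mf ρ ψ w 0 u 0 = m1 ρ ψ + (Fintype.card F - 1) * m2 ρ ψ := by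
  rw [sum8 ρ ψ hψ h, swap_b, ← sum8 ρ ψ hψ h,
    sum_ne_zero_add _ fun w hw => mf_long ρ ψ hψ h (Or.inl hw) hu 0, mf_c ρ ψ hu]

theorem R00_eq (hψ : ψ.IsPrimitive) (h : (3 : F) = 0) :
    mf ρ ψ 0 0 0 0 = n0 ρ ψ + (Fintype.card F - 1) * l0 ρ ψ := by
  rw [← sum6 ρ ψ hψ, sum_ne_zero_add _ fun γ hγ => sf_g ρ ψ h hγ, n0]

theorem R0u_eq (hψ : ψ.IsPrimitive) (h : (3 : F) = 0) {u : F} (hu : u ≠ 0) :
    mf ρ ψ 0 0 u 0 = Fintype.card F * l0 ρ ψ := by
  rw [← sum6 ρ ψ hψ, Finset.sum_congr rfl fun γ _ => sf_u ρ ψ h hu γ]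
  simp

theorem Rw0_eq (hψ : ψ.IsPrimitive) (h : (3 : F) = 0) {w : F} (hw : w ≠ 0) :
    mf ρ ψ w 0 0 0 = Fintype.card F * e0 ρ ψ := by
  rw [← sum6 ρ ψ hψ, Finset.sum_congr rfl fun γ _ => sf_w ρ ψ h hw γ]
  simp

/-- The relation between the two long multiplicities. -/
theorem exchange (hψ : ψ.IsPrimitive) (h : (3 : F) = 0) :
    m1 ρ ψ + Fintype.card F * e0 ρ ψ = m1' ρ ψ + Fintype.card F * l0 ρ ψ := by
  have hc := Finset.sum_comm (s := (Finset.univ : Finset F)) (t := (Finset.univ : Finset F))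
    (f := fun w u => mf ρ ψ w 0 u 0)
  rw [sum_ne_zero_add _ fun w hw => T1_eq ρ ψ hψ h hw,
    sum_ne_zero_add (fun u => ∑ w : F, mf ρ ψ w 0 u 0) fun u hu => T2_eq ρ ψ hψ h hu,
    sum_ne_zero_add _ fun u hu => R0u_eq ρ ψ hψ h hu,
    sum_ne_zero_add _ fun w hw => Rw0_eq ρ ψ hψ h hw, R00_eq ρ ψ hψ h] at hc
  obtain ⟨r, hr⟩ : ∃ r, Fintype.card F = r + 2 :=
    Nat.exists_eq_add_of_le' (Fintype.one_lt_card)
  rw [hr, show r + 2 - 1 = r + 1 by omega] at hc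
  rw [hr]
  refine Nat.eq_of_mul_eq_mul_left (show 0 < r + 1 by omega) ?_
  nlinarith

theorem total (hψ : ψ.IsPrimitive) (h : (3 : F) = 0) :
    finrank ℂ V = (Fintype.card F - 1) * Fintype.card F * (m1 ρ ψ + (Fintype.card F ^ 2 - 1) * m2 ρ ψ)
      + (Fintype.card F ^ 2 - 1) * (m1' ρ ψ + (Fintype.card F - 1) * m2 ρ ψ)
      + (Fintype.card F ^ 2 - 1) * l0 ρ ψ + n0 ρ ψ := by
  rw [← dW_nil ρ ψ, ← sum_dW_pair ρ ψ hψ 11 (L := []) (by simp)]
  have h11 : ∀ c : F, dW ρ ψ [(11, c)] = ∑ w2 : F, ∑ u : F, ∑ w1 : F, mf ρ ψ w1 w2 u c := by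
    intro c
    rw [← sum_dW_pair ρ ψ hψ 9 (L := [(11, c)]) (by simp [commPairs])]
    refine Finset.sum_congr rfl fun w2 _ => ?_
    rw [← sum_dW_pair ρ ψ hψ 10 (L := [(9, w2), (11, c)]) (by simp [commPairs])]
    refine Finset.sum_congr rfl fun u _ => ?_
    rw [sum8 ρ ψ hψ h]
    exact dW_congr ρ ψ fun p => by simp only [List.mem_cons, List.not_mem_nil, or_false]; tauto
  rw [sum_ne_zero_add _ fun c hc => (show dW ρ ψ [(11, c)] =
      Fintype.card F * (m1 ρ ψ + (Fintype.card F ^ 2 - 1) * m2 ρ ψ) from ?_), h11]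
  swap
  · rw [h11]
    have hz : ∀ u : F, ∑ w1 : F, mf ρ ψ w1 0 u c =
        m1 ρ ψ + (Fintype.card F - 1) * m2 ρ ψ := fun u => by
      rw [sum_ne_zero_add _ fun w hw => mf_long ρ ψ hψ h (Or.inl hw) hc u, mf_shift6 ρ ψ hc,
        mf_c ρ ψ hc]
    rw [sum_ne_zero_add (n := Fintype.card F * (Fintype.card F * m2 ρ ψ)) _ fun w2 hw2 => by
      rw [Finset.sum_congr rfl fun u _ => Finset.sum_congr rfl fun w1 _ =>
        mf_long ρ ψ hψ h (Or.inr hw2) hc u]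
      simp, Finset.sum_congr rfl fun u _ => hz u]
    simp only [Finset.sum_const, Finset.card_univ, smul_eq_mul]
    obtain ⟨r, hr⟩ : ∃ r, Fintype.card F = r + 1 := Nat.exists_eq_add_of_le' Fintype.card_pos
    rw [hr, Nat.add_sub_cancel, show (r + 1) ^ 2 = r * r + 2 * r + 1 by ring, Nat.add_sub_cancel]
    ring
  rw [sum_ne_zero_add (n := Fintype.card F * (m1' ρ ψ + (Fintype.card F - 1) * m2 ρ ψ)) _
    fun w2 hw2 => by
      rw [Finset.sum_comm, Finset.sum_congr rfl fun w1 _ => by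
        rw [sum_ne_zero_add _ fun u hu => mf_short ρ ψ hψ h hw2 hu w1, mf_short0 ρ ψ h hw2]]
      simp]
  rw [Finset.sum_comm, sum_ne_zero_add _ fun w hw => T1_eq ρ ψ hψ h hw,
    sum_ne_zero_add _ fun u hu => R0u_eq ρ ψ hψ h hu, R00_eq ρ ψ hψ h]
  obtain ⟨r, hr⟩ : ∃ r, Fintype.card F = r + 1 := Nat.exists_eq_add_of_le' Fintype.card_pos
  rw [hr, Nat.add_sub_cancel, show (r + 1) ^ 2 = r * r + 2 * r + 1 by ring, Nat.add_sub_cancel]
  ring

/-- The fine multiplicities over a short root character. -/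
noncomputable def gf (k γ : F) : ℕ := sf ρ ψ γ 1 0 k

theorem sum_gf_zero (hψ : ψ.IsPrimitive) : ∑ k : F, gf ρ ψ k 0 = m1' ρ ψ := by
  rw [m1', ← sum6 ρ ψ hψ]
  refine Fintype.sum_equiv (Equiv.neg F) _ _ fun k => ?_
  have := sf_weyl ρ ψ 0 (-k) 1 0
  rw [neg_zero, neg_neg] at this
  exact this

theorem sum_gf (hψ : ψ.IsPrimitive) (h : (3 : F) = 0) {g : F} (hg : g ≠ 0) :
    ∑ k : F, gf ρ ψ k g = m2 ρ ψ := by
  rw [← mf_short ρ ψ hψ h (one_ne_zero (α := F)) hg 0, ← sum6 ρ ψ hψ]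
  refine Fintype.sum_equiv (Equiv.neg F) _ _ fun k => ?_
  have := sf_weyl ρ ψ g (-k) 1 0
  rw [neg_zero, neg_neg] at this
  exact this

theorem gf_shift (h : (3 : F) = 0) (t k γ : F) : gf ρ ψ k γ = gf ρ ψ k (γ + t - k * t ^ 3) := by
  have := sf_shift ρ ψ h t γ 1 k
  rwa [one_mul] at this

theorem gf_tor (l : Fˣ) (k γ : F) :
    gf ρ ψ (k * (l : F) ^ 2) (γ * ((l⁻¹ : Fˣ) : F)) = gf ρ ψ k γ := by
  have := sf_tor ρ ψ l l γ 1 k
  have e1 : l ^ (-3 : ℤ) * l ^ (2 : ℤ) = l⁻¹ := by group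
  have e2 : l ^ (-1 : ℤ) * l = 1 := by group
  have e3 : l ^ (3 : ℤ) * l⁻¹ = l ^ 2 := by group
  rw [e1, e2, e3, Units.val_one, one_mul, Units.val_pow_eq_pow_val] at this
  exact this

theorem gf_zero (h : (3 : F) = 0) (γ : F) : gf ρ ψ 0 γ = e0 ρ ψ := sf_w ρ ψ h one_ne_zero γ

/-- Few elements of the field are roots of `t - k t³ - a`. -/
theorem card_roots (k a : F) :
    Nat.card {t : F // t - k * t ^ 3 = a} ≤ 3 := by
  classical
  let P : Polynomial F := Polynomial.X - Polynomial.C k * Polynomial.X ^ 3 - Polynomial.C a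
  have hP : P ≠ 0 := by
    intro h0
    have := congrArg (fun p : Polynomial F => p.coeff 1) h0
    simp [P, Polynomial.coeff_X_pow] at this
  have hdeg : P.natDegree ≤ 3 := by
    simp only [P]
    compute_degree
  rw [Nat.card_eq_fintype_card, Fintype.card_subtype]
  refine le_trans (Finset.card_le_card (t := P.roots.toFinset) fun t ht => ?_)
    ((Multiset.toFinset_card_le _).trans ((Polynomial.card_roots' P).trans hdeg))
  rw [Multiset.mem_toFinset, Polynomial.mem_roots hP]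
  simp [P, (Finset.mem_filter.mp ht).2]

theorem exists_move (hq : 9 ≤ Fintype.card F) (k a b : F) :
    ∃ t : F, t - k * t ^ 3 ≠ a ∧ t - k * t ^ 3 ≠ b := by
  classical
  by_contra hc
  push Not at hc
  have hsub : (Finset.univ : Finset F) ⊆ Finset.univ.filter (fun t : F => t - k * t ^ 3 = a) ∪
      Finset.univ.filter (fun t : F => t - k * t ^ 3 = b) := fun t _ => by
    simp only [Finset.mem_union, Finset.mem_filter, Finset.mem_univ, true_and]
    exact or_iff_not_imp_left.mpr (hc t)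
  have h1 := (Finset.card_le_card hsub).trans (Finset.card_union_le _ _)
  have ha := card_roots k a
  have hb := card_roots k b
  rw [Nat.card_eq_fintype_card, Fintype.card_subtype] at ha hb
  rw [Finset.card_univ] at h1
  omega

theorem m1'_of_m2_zero (hψ : ψ.IsPrimitive) (h : (3 : F) = 0) (hq : 9 ≤ Fintype.card F)
    (hm : m2 ρ ψ = 0) : m1' ρ ψ = 0 := by
  rw [← sum_gf_zero ρ ψ hψ]
  refine Finset.sum_eq_zero fun k _ => ?_
  obtain ⟨t, ht, -⟩ := exists_move hq k 0 0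
  rw [gf_shift ρ ψ h t]
  have := sum_gf ρ ψ hψ h (show 0 + t - k * t ^ 3 ≠ 0 by simpa using ht)
  rw [hm] at this
  exact Finset.sum_eq_zero_iff.mp this k (Finset.mem_univ _)

theorem m2_pos (hψ : ψ.IsPrimitive) (h : (3 : F) = 0) (hq : 9 ≤ Fintype.card F)
    (hρ : ρ.IsIrreducible) (hk : 2 ≤ finrank ℂ V) : 0 < m2 ρ ψ := by
  by_contra hc
  have hm : m2 ρ ψ = 0 := by omega
  have h' := m1'_of_m2_zero ρ ψ hψ h hq hm
  obtain ⟨a, ha, hne⟩ := exists_long_ne_zero ρ ψ hψ (by omega) hρ hk (r := 9) (by norm_num)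
  refine hne ?_
  rw [← sum_dW_pair ρ ψ hψ 11 (L := [(9, a)]) (by simp [commPairs])]
  refine Finset.sum_eq_zero fun c _ => ?_
  rw [← sum_dW_pair ρ ψ hψ 10 (L := [(11, c), (9, a)]) (by simp [commPairs])]
  refine Finset.sum_eq_zero fun u _ => ?_
  rw [dW_congr ρ ψ (L' := [(9, a), (10, u), (11, c)]) (fun p => by
    simp only [List.mem_cons, List.not_mem_nil, or_false]; tauto), ← sum8 ρ ψ hψ h]
  refine Finset.sum_eq_zero fun w _ => ?_
  by_cases hc : c = 0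
  · subst hc
    by_cases hu : u = 0
    · subst hu; rw [mf_short0 ρ ψ h ha, h']
    · rw [mf_short ρ ψ hψ h ha hu, hm]
  · rw [mf_long ρ ψ hψ h (Or.inr ha) hc, hm]

/-- Multiplicity one without short characters gives two classes. -/
theorem m1'_ge_two (hψ : ψ.IsPrimitive) (h : (3 : F) = 0) (hq : 9 ≤ Fintype.card F)
    (hm : m2 ρ ψ = 1) (he : e0 ρ ψ = 0) : 2 ≤ m1' ρ ψ := by
  classical
  obtain ⟨k, hk⟩ : ∃ k, gf ρ ψ k 1 ≠ 0 := by
    by_contra hc
    push Not at hc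
    have := sum_gf ρ ψ hψ h (one_ne_zero (α := F))
    rw [Finset.sum_eq_zero fun k _ => hc k, hm] at this
    exact zero_ne_one this
  have hk0 : k ≠ 0 := fun e => hk (by rw [e, gf_zero ρ ψ h, he])
  have huniq : ∀ {g k' : F}, g ≠ 0 → gf ρ ψ k g ≠ 0 → gf ρ ψ k' g ≠ 0 → k' = k := by
    intro g k' hg h1 h2
    by_contra hne
    have h3 := Finset.sum_le_univ_sum_of_nonneg (f := fun x => gf ρ ψ x g) (fun _ => Nat.zero_le _)
      (s := {k', k})
    rw [Finset.sum_pair hne, sum_gf ρ ψ hψ h hg, hm] at h3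
    omega
  have h0 : gf ρ ψ k 0 ≠ 0 := by
    by_contra h0
    obtain ⟨t, ht1, ht2⟩ := exists_move hq k 0 (-2)
    have hg : gf ρ ψ k (1 + t - k * t ^ 3) ≠ 0 := by rwa [← gf_shift ρ ψ h t]
    set g := 1 + t - k * t ^ 3 with hgdef
    have hg0 : g ≠ 0 := fun e => by rw [e] at hg; exact hg h0
    have htor := gf_tor ρ ψ (Units.mk0 g hg0)⁻¹ k 1
    simp only [inv_inv, Units.val_inv_eq_inv_val, Units.val_mk0, one_mul] at htor
    have := huniq hg0 hg (htor ▸ hk)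
    have h2 : (g⁻¹) ^ 2 = 1 := mul_left_cancel₀ hk0 (this.trans (mul_one k).symm)
    rw [inv_pow, inv_eq_one, sq_eq_one_iff] at h2
    rcases h2 with h2 | h2
    · exact ht1 (by rw [hgdef] at h2; linear_combination h2)
    · exact ht2 (by rw [hgdef] at h2; linear_combination h2)
  obtain ⟨l, hl⟩ := exists_pow_ne_one (F := F) 2 two_pos (by rw [Nat.card_eq_fintype_card]; omega)
  have hl0 := gf_tor ρ ψ l k 0
  rw [zero_mul] at hl0
  have hne : k * (l : F) ^ 2 ≠ k := fun e => hl (Units.ext (by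
    rw [Units.val_pow_eq_pow_val, Units.val_one]
    exact mul_left_cancel₀ hk0 (e.trans (mul_one k).symm)))
  have h3 := Finset.sum_le_univ_sum_of_nonneg (f := fun x => gf ρ ψ x 0) (fun _ => Nat.zero_le _)
    (s := {k * (l : F) ^ 2, k})
  rw [Finset.sum_pair hne, sum_gf_zero ρ ψ hψ, hl0] at h3
  omega

theorem m1'_eq_one (hψ : ψ.IsPrimitive) (h : (3 : F) = 0) (hq : 9 ≤ Fintype.card F)
    (hm : m2 ρ ψ = 1) (he : e0 ρ ψ = 1) : m1' ρ ψ = 1 := by
  classical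
  have hz : ∀ k g : F, k ≠ 0 → g ≠ 0 → gf ρ ψ k g = 0 := by
    intro k g hk hg
    by_contra hne
    have h3 := Finset.sum_le_univ_sum_of_nonneg (f := fun x => gf ρ ψ x g) (fun _ => Nat.zero_le _)
      (s := {k, 0})
    rw [Finset.sum_pair hk, sum_gf ρ ψ hψ h hg, gf_zero ρ ψ h, hm, he] at h3
    omega
  rw [← sum_gf_zero ρ ψ hψ, sum_ne_zero_add (n := 0) _ fun k hk => ?_, gf_zero ρ ψ h, he]
  · simp
  · obtain ⟨t, ht, -⟩ := exists_move hq k 0 0
    rw [gf_shift ρ ψ h t]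
    exact hz k _ hk (by simpa using ht)

theorem n0_ge (hψ : ψ.IsPrimitive) (h : (3 : F) = 0) (hq : 9 ≤ Fintype.card F)
    (he : e0 ρ ψ = 1) (hl : l0 ρ ψ = 1) : Fintype.card F - 1 ≤ n0 ρ ψ := by
  classical
  have inv7 : ∀ (t γ : F), ∀ v ∈ W ρ ψ [(6, γ), (8, (0 : F)), (9, 0), (10, 0), (11, 0)],
      ρ (xg 7 t) v ∈ W ρ ψ [(6, γ), (8, (0 : F)), (9, 0), (10, 0), (11, 0)] := by
    intro t γ v hv
    refine (mem_W_cons ρ ψ).2 ⟨step ρ ψ hv (fun x => [(6, γ, x), (8, 0, t * x), (9, 0, t ^ 2 * x),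
      (10, 0, -(t ^ 3 * x)), (11, 0, -(t ^ 3 * x ^ 2))]) (fun x => swap76 t x)
      (fun x p hp => by
        simp only [List.mem_cons, List.not_mem_nil, or_false] at hp ⊢
        rcases hp with rfl | rfl | rfl | rfl | rfl <;> simp)
      (fun x => by simp), ?_⟩
    have := quad_map7 ρ ψ h t (w1 := 0) (w2 := 0) (u := 0) (c := 0) ((mem_W_cons ρ ψ).1 hv).2
    rwa [mul_zero, sub_zero] at this
  have hγ0 : ∀ γ a : F, γ ≠ 0 → a ≠ 0 →
      dW ρ ψ [(7, a), (6, γ), (8, (0 : F)), (9, 0), (10, 0), (11, 0)] = 0 := by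
    intro γ a hγ ha
    have hs := sum_dW ρ ψ hψ 7 (L := [(6, γ), (8, (0 : F)), (9, 0), (10, 0), (11, 0)])
      fun t v hv => inv7 t γ v hv
    rw [show dW ρ ψ [(6, γ), (8, (0 : F)), (9, 0), (10, 0), (11, 0)] = 1 from
      (sf_g ρ ψ h hγ).trans hl] at hs
    by_contra hne
    obtain ⟨u, hu⟩ := exists_pow_ne_one (F := F) 1 one_pos (by rw [Nat.card_eq_fintype_card]; omega)
    rw [pow_one] at hu
    have ht := dW_tor ρ ψ (u ^ 2) (u ^ 3) [(7, 2, -1, a), (6, -3, 2, γ), (8, -1, 1, (0 : F)),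
      (9, 1, 0, 0), (10, 3, -1, 0), (11, 0, 1, 0)] (by simp [chiList])
    have e1 : (u ^ 2) ^ (2 : ℤ) * (u ^ 3) ^ (-1 : ℤ) = u := by group
    have e2 : (u ^ 2) ^ (-3 : ℤ) * (u ^ 3) ^ (2 : ℤ) = 1 := by group
    simp only [List.map_cons, List.map_nil, zero_mul, e1, e2, Units.val_one, mul_one] at ht
    have h3 := Finset.sum_le_univ_sum_of_nonneg
      (f := fun a : F => dW ρ ψ [(7, a), (6, γ), (8, (0 : F)), (9, 0), (10, 0), (11, 0)])
      (fun _ => Nat.zero_le _) (s := {a, a * (u : F)})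
    rw [Finset.sum_pair (fun e => hu (Units.ext (mul_left_cancel₀ ha
      (e.symm.trans (mul_one a).symm)))), hs] at h3
    omega
  have hone : ∀ a : F, a ≠ 0 →
      dW ρ ψ [(7, a), (6, (0 : F)), (8, 0), (9, 0), (10, 0), (11, 0)] = 1 := by
    intro a ha
    -- the slice over the other radical
    have hw := dW_weyl ρ ψ 1 [(7, 8, 1, a), (8, 7, -1, (0 : F)), (9, 9, 1, 0), (10, 11, 1, 0),
      (11, 10, -1, 0)] (by simp [weylList])
    simp only [List.map_cons, List.map_nil, zero_mul, Int.cast_one, mul_one] at hw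
    have hmap : ∀ (t : F) (w : F) (b : F) {v : V},
        v ∈ W ρ ψ [(7, b), (8, w), (9, (0 : F)), (10, 0), (11, 0)] →
        ρ (xg 6 t) v ∈ W ρ ψ [(7, b - t * w), (8, w), (9, (0 : F)), (10, 0), (11, 0)] := by
      intro t w b v hv
      refine (mem_W_cons ρ ψ).2 ⟨step ρ ψ hv (fun x => [(7, b, x), (8, w, -(t * x)),
        (9, 0, -(t * x ^ 2)), (10, 0, t * x ^ 3), (11, 0, -(2 * (t ^ 2 * x ^ 3)))])
        (fun x => swap67 t x) (fun x p hp => by
          simp only [List.mem_cons, List.not_mem_nil, or_false] at hp ⊢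
          rcases hp with rfl | rfl | rfl | rfl | rfl <;> simp) (fun x => by simp; ring), ?_⟩
      have := quad_map6 ρ ψ t (w1 := w) (w2 := 0) (u := 0) (c := 0) ((mem_W_cons ρ ψ).1 hv).2
      rwa [mul_zero, sub_zero] at this
    have hs7 : ∑ b : F, dW ρ ψ [(7, b), (8, a), (9, (0 : F)), (10, 0), (11, 0)] =
        mf ρ ψ a 0 0 0 :=
      sum_dW ρ ψ hψ 7 fun t v hv => by
        have := quad_map7 ρ ψ h t (w1 := a) (w2 := 0) (u := 0) (c := 0) hv
        rwa [mul_zero, sub_zero] at this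
    rw [Rw0_eq ρ ψ hψ h ha, he, mul_one, Finset.sum_congr rfl fun b _ =>
      (show dW ρ ψ [(7, b), (8, a), (9, (0 : F)), (10, 0), (11, 0)] =
        dW ρ ψ [(7, (0 : F)), (8, a), (9, 0), (10, 0), (11, 0)] from by
        refine dW_shift ρ ψ (r := 6) (t := b / a) (fun v hv => ?_) fun v hv => ?_
        · have := hmap (b / a) a b hv
          rwa [div_mul_cancel₀ b ha, sub_self] at this
        · have := hmap (-(b / a)) a 0 hv
          rwa [neg_mul, div_mul_cancel₀ b ha, sub_neg_eq_add, zero_add] at this),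
      Finset.sum_const, smul_eq_mul, Finset.card_univ] at hs7
    have h1 : dW ρ ψ [(7, a), (8, (0 : F)), (9, 0), (10, 0), (11, 0)] = 1 := by
      refine Eq.trans ?_ ((Nat.mul_eq_left Fintype.card_ne_zero).mp hs7)
      refine hw.trans (dW_congr ρ ψ fun p => ?_)
      simp only [List.mem_cons, List.not_mem_nil, or_false]; tauto
    rw [← sum_dW ρ ψ hψ 6 (L := [(7, a), (8, (0 : F)), (9, 0), (10, 0), (11, 0)]) fun t v hv => by
        have := hmap t 0 a hv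
        rwa [mul_zero, sub_zero] at this,
      sum_ne_zero_add (n := 0) _ fun γ hγ => (dW_congr ρ ψ fun p => by
        simp only [List.mem_cons, List.not_mem_nil, or_false]; tauto).trans (hγ0 γ a hγ ha),
      mul_zero, add_zero] at h1
    refine Eq.trans (dW_congr ρ ψ fun p => ?_) h1
    simp only [List.mem_cons, List.not_mem_nil, or_false]; tauto
  have hn : n0 ρ ψ = ∑ a : F, dW ρ ψ [(7, a), (6, (0 : F)), (8, 0), (9, 0), (10, 0), (11, 0)] :=
    (sum_dW ρ ψ hψ 7 fun t v hv => inv7 t 0 v hv).symm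
  rw [hn, sum_ne_zero_add _ hone, mul_one]
  omega

/-- Degrees just below the bound do not divide the order. -/
theorem not_dvd_order {q : ℕ} (hq : 9 ≤ q) {e : ℕ} (he : e ≤ 2) :
    ¬ (q ^ 4 + q ^ 2 - e) ∣ q ^ 6 * (q ^ 2 - 1) * (q ^ 6 - 1) := by
  intro hd
  have h1 : 1 ≤ q := by omega
  have hdz : ((q : ℤ) ^ 4 + (q : ℤ) ^ 2 - (e : ℤ)) ∣
      (q : ℤ) ^ 6 * ((q : ℤ) ^ 2 - 1) * ((q : ℤ) ^ 6 - 1) := by
    have := Int.natCast_dvd_natCast.mpr hd
    push_cast [Nat.one_le_pow 2 q h1, Nat.one_le_pow 6 q h1,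
      show e ≤ q ^ 4 + q ^ 2 by nlinarith] at this
    exact this
  set y : ℤ := (q : ℤ) ^ 2 with hy
  have hy81 : 81 ≤ y := by
    have : (9 : ℤ) ≤ q := by exact_mod_cast hq
    nlinarith
  have e4 : (q : ℤ) ^ 4 = y ^ 2 := by rw [hy]; ring
  have e6 : (q : ℤ) ^ 6 = y ^ 3 := by rw [hy]; ring
  rw [e4, e6] at hdz
  obtain rfl | rfl | rfl : e = 0 ∨ e = 1 ∨ e = 2 := by omega
  · have h4 : (y + 1) ∣ y ^ 3 * (y - 1) * (y ^ 3 - 1) :=
      (Dvd.intro_left y (show y * (y + 1) = y ^ 2 + y - ((0 : ℕ) : ℤ) by push_cast; ring)).trans hdz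
    have : (y + 1) ∣ 4 := by
      have h5 : (y + 1) ∣ y ^ 3 * (y - 1) * (y ^ 3 - 1) + 4 :=
        Dvd.intro (y ^ 6 - 2 * y ^ 5 + 2 * y ^ 4 - 3 * y ^ 3 + 4 * y ^ 2 - 4 * y + 4) (by ring)
      exact (dvd_add_right h4).mp h5
    have := Int.le_of_dvd (by norm_num) this
    omega
  · have h5 : (y ^ 2 + y - 1) ∣ y ^ 3 * (y - 1) * (y ^ 3 - 1) - (26 * y - 16) :=
      Dvd.intro (y ^ 5 - 2 * y ^ 4 + 3 * y ^ 3 - 6 * y ^ 2 + 10 * y - 16) (by ring)
    have : (y ^ 2 + y - 1) ∣ 26 * y - 16 := by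
      have h4 : (y ^ 2 + y - 1) ∣ y ^ 3 * (y - 1) * (y ^ 3 - 1) := by simpa using hdz
      exact (dvd_sub_right h4).mp h5
    have := Int.le_of_dvd (by omega) this
    nlinarith
  · have h4 : (y + 2) ∣ y ^ 3 * (y ^ 3 - 1) := by
      have h6 : (y + 2) * (y - 1) ∣ y ^ 3 * (y ^ 3 - 1) * (y - 1) := by
        have : y ^ 3 * (y ^ 3 - 1) * (y - 1) = y ^ 3 * (y - 1) * (y ^ 3 - 1) := by ring
        rw [this, show (y + 2) * (y - 1) = y ^ 2 + y - ((2 : ℕ) : ℤ) by push_cast; ring]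
        exact hdz
      exact (mul_dvd_mul_iff_right (by omega)).mp h6
    have : (y + 2) ∣ 72 := by
      have h5 : (y + 2) ∣ y ^ 3 * (y ^ 3 - 1) - 72 :=
        Dvd.intro (y ^ 5 - 2 * y ^ 4 + 4 * y ^ 3 - 9 * y ^ 2 + 18 * y - 36) (by ring)
      exact (dvd_sub_right h4).mp h5
    have := Int.le_of_dvd (by norm_num) this
    omega

theorem degree_three (hψ : ψ.IsPrimitive) (h : (3 : F) = 0) (hq : 9 ≤ Fintype.card F)
    (hρ : ρ.IsIrreducible) (hk : 2 ≤ finrank ℂ V) :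
    Fintype.card F ^ 4 + Fintype.card F ^ 2 + 1 ≤ finrank ℂ V := by
  classical
  haveI := hρ
  haveI := finite_group (F := F)
  by_contra hlt
  have ht := total ρ ψ hψ h
  have hx := exchange ρ ψ hψ h
  have hpos := m2_pos ρ ψ hψ h hq hρ hk
  obtain ⟨r, hr⟩ : ∃ r, Fintype.card F = r + 9 := Nat.exists_eq_add_of_le' hq
  rw [hr, show r + 9 - 1 = r + 8 by omega,
    show (r + 9) ^ 2 = r * r + 18 * r + 80 + 1 by ring, Nat.add_sub_cancel] at ht
  rw [hr] at hx hlt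
  have hm : m2 ρ ψ = 1 := by
    by_contra hne
    have h2 : 2 ≤ m2 ρ ψ := by omega
    have := Nat.mul_le_mul_left ((r + 8) * (r + 9) * (r * r + 18 * r + 80) +
      (r * r + 18 * r + 80) * (r + 8)) h2
    nlinarith
  rw [hm] at ht
  have he1 : e0 ρ ψ ≤ 1 := by
    rw [← gf_zero ρ ψ h 1, ← hm, ← sum_gf ρ ψ hψ h (one_ne_zero (α := F))]
    exact Finset.single_le_sum (f := fun k => gf ρ ψ k 1) (fun _ _ => Nat.zero_le _)
      (Finset.mem_univ 0)
  rcases Nat.le_one_iff_eq_zero_or_eq_one.mp he1 with he | he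
  · have h2 := m1'_ge_two ρ ψ hψ h hq hm he
    rw [he] at hx
    have h3 : 2 ≤ m1 ρ ψ := by
      have := Nat.zero_le ((r + 9) * l0 ρ ψ)
      omega
    have := Nat.mul_le_mul_left ((r + 8) * (r + 9)) h3
    have := Nat.mul_le_mul_left (r * r + 18 * r + 80) h2
    nlinarith
  · have h1 := m1'_eq_one ρ ψ hψ h hq hm he
    rw [he, h1, mul_one] at hx
    rw [h1] at ht
    rcases Nat.lt_trichotomy (l0 ρ ψ) 1 with hl | hl | hl
    · have : l0 ρ ψ = 0 := by omega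
      rw [this, mul_zero] at hx
      omega
    · rw [hl] at hx ht
      have hm1 : m1 ρ ψ = 1 := by omega
      rw [hm1] at ht
      have hn := n0_ge ρ ψ hψ h hq he hl
      rw [hr, show r + 9 - 1 = r + 8 by omega] at hn
      have hd := CfsgLib.Char.finrank_dvd_card ρ
      rw [Cfsg.Agent.S1059.result rfl, hr] at hd
      obtain ⟨e, he2, hek⟩ : ∃ e, e ≤ 2 ∧ finrank ℂ V = (r + 9) ^ 4 + (r + 9) ^ 2 - e := by
        refine ⟨(r + 9) ^ 4 + (r + 9) ^ 2 - finrank ℂ V, ?_, by omega⟩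
        have : (r + 9) ^ 4 + (r + 9) ^ 2 ≤ finrank ℂ V + 2 := by rw [ht]; nlinarith
        omega
      rw [hek] at hd
      exact not_dvd_order (by omega) he2 hd
    · have h3 : r + 9 + 1 ≤ m1 ρ ψ := by
        have := Nat.mul_le_mul_left (r + 9) hl
        omega
      have := Nat.mul_le_mul_left ((r + 8) * (r + 9)) h3
      have := Nat.mul_le_mul_left (r * r + 18 * r + 80) hl
      nlinarith

end CfsgLib.G2MinDeg
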