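import Cfsg.Agent.G2MinDeg.HeckeSum
import Cfsg.Agent.G2MinDeg.ThreeDegree

/-!
The lower bounds for the degrees of non-trivial representations of `G₂(q)`.
-/

set_option autoImplicit false
set_option linter.style.haveILetI false
set_option linter.unusedSectionVars false

namespace CfsgLib.G2MinDeg

open Module Cfsg.Lie CfsgLib.MinDeg

variable {F : Type*} [Field F] [Fintype F]

theorem three_eq_zero_iff : (3 : F) = 0 ↔ Fintype.card F % 3 = 0 := by
  constructor
  · intro h
    haveI : CharP F 3 := (CharP.charP_iff_prime_eq_zero Nat.prime_three).mpr (by exact_mod_cast h)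
    obtain ⟨n, -, hn⟩ := FiniteField.card F 3
    rw [hn]
    exact Nat.dvd_iff_mod_eq_zero.mp (dvd_pow_self 3 n.ne_zero)
  · intro h
    obtain ⟨p, hp⟩ := CharP.exists F
    haveI := hp
    obtain ⟨n, hp', hn⟩ := FiniteField.card F p
    have h3 : 3 ∣ p := Nat.prime_three.dvd_of_dvd_pow (hn ▸ Nat.dvd_of_mod_eq_zero h)
    have : p = 3 := ((Nat.prime_dvd_prime_iff_eq Nat.prime_three hp').mp h3).symm
    subst this
    exact_mod_cast CharP.cast_eq_zero F 3

theorem nine_le (h : Fintype.card F % 3 = 0) (h3 : 3 < Fintype.card F) : 9 ≤ Fintype.card F := by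
  haveI : CharP F 3 := (CharP.charP_iff_prime_eq_zero Nat.prime_three).mpr
    (by exact_mod_cast three_eq_zero_iff.mpr h)
  obtain ⟨n, -, hn⟩ := FiniteField.card F 3
  rw [hn] at h3 ⊢
  have : 2 ≤ (n : ℕ) := by
    by_contra hc
    interval_cases (n : ℕ) <;> simp_all
  calc 9 = 3 ^ 2 := by norm_num
    _ ≤ _ := Nat.pow_le_pow_right (by norm_num) this

theorem bounds {V : Type*} [AddCommGroup V] [Module ℂ V] [FiniteDimensional ℂ V]
    (ρ : Representation ℂ (chevG2.group F) V) (hρ : ρ.IsIrreducible) (hk : 2 ≤ finrank ℂ V) :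
    (Fintype.card F % 3 = 1 → 4 < Fintype.card F → Fintype.card F ^ 3 + 1 ≤ finrank ℂ V) ∧
    (Fintype.card F % 3 = 2 → 2 < Fintype.card F → Fintype.card F ^ 3 - 1 ≤ finrank ℂ V) ∧
    (Fintype.card F % 3 = 0 → 3 < Fintype.card F →
      Fintype.card F ^ 4 + Fintype.card F ^ 2 + 1 ≤ finrank ℂ V) := by
  obtain ⟨ψ, hψ⟩ := exists_primitive F
  refine ⟨fun h hq => ?_, fun h hq => ?_, fun h hq => ?_⟩
  · have h3 : (3 : F) ≠ 0 := fun e => by rw [three_eq_zero_iff.mp e] at h; omega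
    rcases degree_ge ρ ψ hψ h3 (by omega) hρ hk with hb | ⟨hm, hb⟩
    · exact hb
    by_contra hlt
    obtain ⟨h0, hdim, -⟩ := off_zero ρ ψ hψ h3 (by omega) hm (by omega)
    rcases Nat.le_one_iff_eq_zero_or_eq_one.mp h0 with e | e
    · exact not_q_cube_sub_one ρ ψ hψ h3 (by omega) h hρ hm e (by rw [hdim, e, add_zero])
    · exact not_q_cube ρ ψ hψ (by omega) hρ e (by rw [e] at hdim; omega)
  · have h3 : (3 : F) ≠ 0 := fun e => by rw [three_eq_zero_iff.mp e] at h; omega
    rcases degree_ge ρ ψ hψ h3 (by omega) hρ hk with hb | ⟨-, hb⟩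
    · omega
    · exact hb
  · exact degree_three ρ ψ hψ (three_eq_zero_iff.mpr h) (nine_le h hq) hρ hk

end CfsgLib.G2MinDeg
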