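import Cfsg.Agent.G2MinDeg.Basic

/-!
Moving the common eigenspaces of root subgroups of `G₂(q)` in a representation.
-/

set_option autoImplicit false
set_option linter.style.haveILetI false
set_option linter.unusedSectionVars false

namespace CfsgLib.G2MinDeg

open Module Cfsg.Lie CfsgLib.MinDeg

variable {F : Type*} [Field F] [Fintype F] {V : Type*} [AddCommGroup V] [Module ℂ V]
  [FiniteDimensional ℂ V] (ρ : Representation ℂ (chevG2.group F) V) (ψ : AddChar F ℂ)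

/-- The common eigenspace of root subgroups with prescribed characters. -/
noncomputable abbrev W (L : List (ℕ × F)) : Submodule ℂ V := wt ρ eX ψ L

/-- Its dimension. -/
noncomputable abbrev dW (L : List (ℕ × F)) : ℕ := finrank ℂ (W ρ ψ L)

theorem mem_W {L : List (ℕ × F)} {v : V} :
    v ∈ W ρ ψ L ↔ ∀ p ∈ L, ∀ u, ρ (xg p.1 u) v = ψ (p.2 * u) • v := by
  rw [W, mem_wt]
  simp only [mem_eig, eX_apply]

/-- The character of one root subgroup on a translate by a root element. -/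
theorem step {r s : ℕ} {t b : F} {L : List (ℕ × F)} {v : V} (hv : v ∈ W ρ ψ L)
    (M : F → List (ℕ × F × F))
    (h : ∀ u, xg s u * xg r t = xg r t * xprod ((M u).map fun p => (p.1, p.2.2)))
    (hM : ∀ u, ∀ p ∈ M u, (p.1, p.2.1) ∈ L)
    (hb : ∀ u, ((M u).map fun p => p.2.1 * p.2.2).sum = b * u) :
    ρ (xg r t) v ∈ eig ρ eX ψ s b :=
  translate ρ eX ψ (fun u => xprod ((M u).map fun p : ℕ × F × F => (p.1, p.2.2))) (fun u => h u) fun u => by
    rw [← hb u, xprod, List.map_map]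
    exact prod_eigen ρ eX ψ hv (hM u)

/-- A commuting root subgroup keeps its character. -/
theorem step_pair {r s : ℕ} {t b : F} {L : List (ℕ × F)} {v : V} (hv : v ∈ W ρ ψ L)
    (h : (r, s) ∈ commPairs ∨ r = s) (hm : (s, b) ∈ L) : ρ (xg r t) v ∈ eig ρ eX ψ s b :=
  step ρ ψ hv (fun u => [(s, b, u)])
    (fun u => by rcases h with h | rfl; exacts [swap_pair h t u, swap_self r t u])
    (fun u => by simpa using hm) fun u => by simp

/-- An eigenspace invariant under a commuting root subgroup. -/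
theorem inv_pair {r : ℕ} {t : F} {L : List (ℕ × F)}
    (h : ∀ p ∈ L, (r, p.1) ∈ commPairs ∨ r = p.1) {v : V} (hv : v ∈ W ρ ψ L) :
    ρ (xg r t) v ∈ W ρ ψ L :=
  (mem_wt ρ eX ψ).2 fun p hp => step_pair ρ ψ hv (h p hp) hp

/-- Translation by a root element and its inverse. -/
theorem dW_shift {r : ℕ} {t : F} {L L' : List (ℕ × F)}
    (h : ∀ v ∈ W ρ ψ L, ρ (xg r t) v ∈ W ρ ψ L')
    (h' : ∀ v ∈ W ρ ψ L', ρ (xg r (-t)) v ∈ W ρ ψ L) : dW ρ ψ L = dW ρ ψ L' :=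
  finrank_eq_of_maps ρ (xg r t) h (by rwa [xg_inv])

theorem dW_congr {L L' : List (ℕ × F)} (h : ∀ p, p ∈ L ↔ p ∈ L') : dW ρ ψ L = dW ρ ψ L' := by
  rw [dW, dW, W, W, wt_congr ρ eX ψ h]

theorem sum_dW (hψ : ψ.IsPrimitive) (r : ℕ) {L : List (ℕ × F)}
    (hinv : ∀ t, ∀ v ∈ W ρ ψ L, ρ (xg r t) v ∈ W ρ ψ L) :
    ∑ a : F, dW ρ ψ ((r, a) :: L) = dW ρ ψ L :=
  sum_slices ρ eX ψ hψ (r := r) fun t v hv => hinv t v hv

theorem sum_dW_pair (hψ : ψ.IsPrimitive) (r : ℕ) {L : List (ℕ × F)}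
    (h : ∀ p ∈ L, (r, p.1) ∈ commPairs ∨ r = p.1) :
    ∑ a : F, dW ρ ψ ((r, a) :: L) = dW ρ ψ L :=
  sum_dW ρ ψ hψ r fun _ _ hv => inv_pair ρ ψ h hv

theorem dW_nil : dW ρ ψ [] = finrank ℂ V := by
  rw [dW, W, wt, finrank_top]

theorem dW_le (L : List (ℕ × F)) : dW ρ ψ L ≤ finrank ℂ V := Submodule.finrank_le _

theorem dW_cons_le (p : ℕ × F) (L : List (ℕ × F)) : dW ρ ψ (p :: L) ≤ dW ρ ψ L :=
  Submodule.finrank_mono inf_le_right

/-- Conjugation by the torus. -/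
theorem dW_tor (l d : Fˣ) (M : List (ℕ × ℤ × ℤ × F)) (h : ∀ p ∈ M, (p.1, p.2.1, p.2.2.1) ∈ chiList) :
    dW ρ ψ (M.map fun p => (p.1, p.2.2.2 * ((l ^ p.2.1 * d ^ p.2.2.1 : Fˣ) : F))) =
      dW ρ ψ (M.map fun p => (p.1, p.2.2.2)) := by
  have := finrank_wt_conj ρ eX ψ (tor l d)
    (M.map fun p => (p.1, p.1, l ^ p.2.1 * d ^ p.2.2.1, p.2.2.2)) (by
      simp only [List.mem_map]
      rintro _ ⟨p, hp, rfl⟩ u
      exact tor_conj (h p hp) l d u)
  rw [List.map_map, List.map_map] at this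
  exact this

/-- Conjugation by a reflection. -/
theorem dW_weyl (i : Fin 2) (M : List (ℕ × ℕ × ℤ × F))
    (h : ∀ p ∈ M, (i, p.1, p.2.1, p.2.2.1) ∈ weylList ∧ (p.2.2.1 = 1 ∨ p.2.2.1 = -1)) :
    dW ρ ψ (M.map fun p => (p.1, p.2.2.2 * ((p.2.2.1 : ℤ) : F))) =
      dW ρ ψ (M.map fun p => (p.2.1, p.2.2.2)) := by
  let sg : ℤ → Fˣ := fun z => if z = 1 then 1 else -1
  have hsg : ∀ z : ℤ, z = 1 ∨ z = -1 → ((sg z : Fˣ) : F) = (z : F) := by
    rintro z (rfl | rfl) <;> simp [sg]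
  have := finrank_wt_conj ρ eX ψ (nF (F := F) i)
    (M.map fun p => (p.1, p.2.1, sg p.2.2.1, p.2.2.2)) (by
      simp only [List.mem_map]
      rintro _ ⟨p, hp, rfl⟩ u
      rw [eX_apply, eX_apply, hsg _ (h p hp).2]
      exact nF_conj (h p hp).1 u)
  rw [List.map_map, List.map_map] at this
  refine Eq.trans ?_ this
  show finrank ℂ (wt ρ eX ψ _) = finrank ℂ (wt ρ eX ψ _)
  rw [List.map_congr_left fun p hp => ?_]
  simp [hsg _ (h p hp).2]

/-- The long root subgroup of the highest root acts non-trivially. -/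
theorem exists_long_ne_zero (hψ : ψ.IsPrimitive) (hF : 3 ≤ Fintype.card F) (hρ : ρ.IsIrreducible)
    (hk : 2 ≤ finrank ℂ V) {r : ℕ} (hr : r < 12) :
    ∃ a : F, a ≠ 0 ∧ dW ρ ψ [(r, a)] ≠ 0 := by
  haveI := isSimple hF
  have hne : ρ (eX r (Multiplicative.ofAdd (1 : F))) ≠ 1 := by
    intro h
    rcases (MonoidHom.normal_ker ρ).eq_bot_or_eq_top with e | e
    · have hm : xg r (1 : F) ∈ ρ.ker := h
      rw [e, Subgroup.mem_bot] at hm
      exact one_ne_zero (CfsgLib.Chev.good_G2.x_eq_one hr (congrArg Subtype.val hm))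
    · have := rho_trivial_degree ρ hρ fun g =>
        MonoidHom.mem_ker.mp (e ▸ Subgroup.mem_top g : g ∈ ρ.ker)
      omega
  obtain ⟨a, ha, hw⟩ := exists_eig_ne_zero ρ eX ψ hψ hne
  refine ⟨a, ha, fun h0 => hw ?_⟩
  rw [dW, Submodule.finrank_eq_zero] at h0
  rw [← h0, W, wt, wt, inf_top_eq]

end CfsgLib.G2MinDeg
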