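import Cfsg.Agent.G2MinDeg.Coprime
import Cfsg.Agent.S1059
import Cfsg.Agent.Char.Central
import Mathlib.FieldTheory.Finite.Basic

/-!
Weights of a representation of `G₂(q)` on root subgroups in characteristic three.
-/

set_option autoImplicit false
set_option linter.style.haveILetI false
set_option linter.unusedSectionVars false

namespace CfsgLib.G2MinDeg

open Module Cfsg.Lie CfsgLib.MinDeg

variable {F : Type*} [Field F] [Fintype F] {V : Type*} [AddCommGroup V] [Module ℂ V]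
  [FiniteDimensional ℂ V] (ρ : Representation ℂ (chevG2.group F) V) (ψ : AddChar F ℂ)

theorem two_eq_neg_one (h : (3 : F) = 0) : (2 : F) = -1 := by linear_combination h

/-- Pairs commuting in characteristic three. -/
theorem step_pair3 (h : (3 : F) = 0) {r s : ℕ} {t b : F} {L : List (ℕ × F)} {v : V}
    (hv : v ∈ W ρ ψ L) (hp : (r, s) ∈ [(8, 9), (9, 8), (7, 9)]) (hm : (s, b) ∈ L)
    (h11 : ∃ c, (11, c) ∈ L) (h10 : (r, s) = (7, 9) → ∃ c, (10, c) ∈ L) :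
    ρ (xg r t) v ∈ eig ρ eX ψ s b := by
  obtain ⟨c, hc⟩ := h11
  simp only [List.mem_cons, List.not_mem_nil, or_false, Prod.mk.injEq] at hp
  rcases hp with ⟨rfl, rfl⟩ | ⟨rfl, rfl⟩ | ⟨rfl, rfl⟩
  · exact step ρ ψ hv (fun u => [(9, b, u), (11, c, -(3 * (t * u)))]) (fun u => swap89 t u)
      (fun u p hq => by
        simp only [List.mem_cons, List.not_mem_nil, or_false] at hq
        rcases hq with rfl | rfl <;> assumption) fun u => by simp [h]
  · exact step ρ ψ hv (fun u => [(8, b, u), (11, c, 3 * (t * u))]) (fun u => swap98 t u)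
      (fun u p hq => by
        simp only [List.mem_cons, List.not_mem_nil, or_false] at hq
        rcases hq with rfl | rfl <;> assumption) fun u => by simp [h]
  · obtain ⟨d, hd⟩ := h10 rfl
    exact step ρ ψ hv (fun u => [(9, b, u), (10, d, -(3 * (t * u)))]) (fun u => swap79 t u)
      (fun u p hq => by
        simp only [List.mem_cons, List.not_mem_nil, or_false] at hq
        rcases hq with rfl | rfl <;> assumption) fun u => by simp [h]

/-- The abelian radical. -/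
def quad (w1 w2 u c : F) : List (ℕ × F) := [(8, w1), (9, w2), (10, u), (11, c)]

/-- Its multiplicities. -/
noncomputable def mf (w1 w2 u c : F) : ℕ := dW ρ ψ (quad w1 w2 u c)

theorem quad_map6 (t : F) {w1 w2 u c : F} {v : V} (hv : v ∈ W ρ ψ (quad w1 w2 u c)) :
    ρ (xg 6 t) v ∈ W ρ ψ (quad w1 w2 (u - t * c) c) := by
  show ρ (xg 6 t) v ∈ W ρ ψ [(8, w1), (9, w2), (10, u - t * c), (11, c)]
  exact (mem_W_cons ρ ψ).2 ⟨step_pair ρ ψ hv (Or.inl (by simp [commPairs])) (by simp [quad]),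
    (mem_W_cons ρ ψ).2 ⟨step_pair ρ ψ hv (Or.inl (by simp [commPairs])) (by simp [quad]),
    (mem_W_cons ρ ψ).2 ⟨e610 ρ ψ (β := u) (c := c) t hv (by simp [quad]) (by simp [quad]),
    (mem_W_cons ρ ψ).2 ⟨step_pair ρ ψ hv (Or.inl (by simp [commPairs])) (by simp [quad]),
      mem_W_nil ρ ψ⟩⟩⟩⟩

theorem quad_map7 (h : (3 : F) = 0) (t : F) {w1 w2 u c : F} {v : V}
    (hv : v ∈ W ρ ψ (quad w1 w2 u c)) :
    ρ (xg 7 t) v ∈ W ρ ψ (quad (w1 - t * w2) w2 u c) := by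
  show ρ (xg 7 t) v ∈ W ρ ψ [(8, w1 - t * w2), (9, w2), (10, u), (11, c)]
  exact (mem_W_cons ρ ψ).2 ⟨step ρ ψ hv (fun x => [(8, w1, x), (9, w2, 2 * (t * x)),
      (10, u, -(3 * (t ^ 2 * x))), (11, c, -(3 * (t * x ^ 2)))]) (fun x => swap78 t x)
      (fun x p hp => by
        simp only [List.mem_cons, List.not_mem_nil, or_false, quad] at hp ⊢
        rcases hp with rfl | rfl | rfl | rfl <;> simp)
      (fun x => by simp [h, two_eq_neg_one h]; ring),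
    (mem_W_cons ρ ψ).2 ⟨step_pair3 ρ ψ h hv (by simp) (by simp [quad]) ⟨c, by simp [quad]⟩
      (fun _ => ⟨u, by simp [quad]⟩),
    (mem_W_cons ρ ψ).2 ⟨step_pair ρ ψ hv (Or.inl (by simp [commPairs])) (by simp [quad]),
    (mem_W_cons ρ ψ).2 ⟨step_pair ρ ψ hv (Or.inl (by simp [commPairs])) (by simp [quad]),
      mem_W_nil ρ ψ⟩⟩⟩⟩

theorem mf_shift6 {c : F} (hc : c ≠ 0) (w1 w2 u : F) : mf ρ ψ w1 w2 u c = mf ρ ψ w1 w2 0 c := by
  refine dW_shift ρ ψ (r := 6) (t := u / c) (fun v hv => ?_) fun v hv => ?_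
  · have := quad_map6 ρ ψ (u / c) hv
    rwa [div_mul_cancel₀ u hc, sub_self] at this
  · have := quad_map6 ρ ψ (-(u / c)) hv
    rwa [neg_mul, div_mul_cancel₀ u hc, sub_neg_eq_add, zero_add] at this

theorem mf_shift7 (h : (3 : F) = 0) {w2 : F} (hw : w2 ≠ 0) (w1 u c : F) :
    mf ρ ψ w1 w2 u c = mf ρ ψ 0 w2 u c := by
  refine dW_shift ρ ψ (r := 7) (t := w1 / w2) (fun v hv => ?_) fun v hv => ?_
  · have := quad_map7 ρ ψ h (w1 / w2) hv
    rwa [div_mul_cancel₀ w1 hw, sub_self] at this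
  · have := quad_map7 ρ ψ h (-(w1 / w2)) hv
    rwa [neg_mul, div_mul_cancel₀ w1 hw, sub_neg_eq_add, zero_add] at this

theorem sum10 (hψ : ψ.IsPrimitive) (w1 w2 c : F) :
    ∑ u : F, mf ρ ψ w1 w2 u c = dW ρ ψ [(8, w1), (9, w2), (11, c)] := by
  rw [← sum_dW_pair ρ ψ hψ 10 (L := [(8, w1), (9, w2), (11, c)]) (by simp [commPairs])]
  exact Finset.sum_congr rfl fun u _ => dW_congr ρ ψ fun p => by
    simp only [quad, List.mem_cons, List.not_mem_nil, or_false]; tauto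

theorem sum8 (hψ : ψ.IsPrimitive) (h : (3 : F) = 0) (w2 u c : F) :
    ∑ w1 : F, mf ρ ψ w1 w2 u c = dW ρ ψ [(9, w2), (10, u), (11, c)] := by
  refine sum_dW ρ ψ hψ 8 fun t v hv => ?_
  exact (mem_W_cons ρ ψ).2 ⟨step_pair3 ρ ψ h hv (by simp) (by simp) ⟨c, by simp⟩ (by simp),
    (mem_W_cons ρ ψ).2 ⟨step_pair ρ ψ hv (Or.inl (by simp [commPairs])) (by simp),
    (mem_W_cons ρ ψ).2 ⟨step_pair ρ ψ hv (Or.inl (by simp [commPairs])) (by simp),
      mem_W_nil ρ ψ⟩⟩⟩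

theorem swap_a (a c : F) :
    dW ρ ψ [(8, a), (9, (0 : F)), (11, c)] = dW ρ ψ [(8, (0 : F)), (9, a), (11, c)] := by
  have := dW_weyl ρ ψ 0 [(8, 9, 1, a), (9, 8, -1, (0 : F)), (11, 11, 1, c)] (by simp [weylList])
  simp only [List.map_cons, List.map_nil, zero_mul, Int.cast_one, mul_one] at this
  exact this.trans (dW_congr ρ ψ fun p => by
    simp only [List.mem_cons, List.not_mem_nil, or_false]; tauto)

theorem swap_b (w a : F) :
    dW ρ ψ [(9, w), (10, a), (11, (0 : F))] = dW ρ ψ [(9, w), (10, (0 : F)), (11, a)] := by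
  have := dW_weyl ρ ψ 1 [(9, 9, 1, w), (10, 11, 1, a), (11, 10, -1, (0 : F))] (by simp [weylList])
  simp only [List.map_cons, List.map_nil, zero_mul, Int.cast_one, mul_one] at this
  exact this.trans (dW_congr ρ ψ fun p => by
    simp only [List.mem_cons, List.not_mem_nil, or_false]; tauto)

/-- The generic multiplicity. -/
noncomputable def m2 : ℕ := mf ρ ψ 0 1 0 1

/-- The multiplicity of the long root centre. -/
noncomputable def m1 : ℕ := mf ρ ψ 0 0 0 1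

/-- The multiplicity of the short root centre. -/
noncomputable def m1' : ℕ := mf ρ ψ 0 1 0 0

theorem mf_c {c : F} (hc : c ≠ 0) : mf ρ ψ 0 0 0 c = m1 ρ ψ := by
  have := dW_tor ρ ψ 1 (Units.mk0 c hc)
    [(8, -1, 1, (0 : F)), (9, 1, 0, 0), (10, 3, -1, 0), (11, 0, 1, 1)] (by simp [chiList])
  simp only [List.map_cons, List.map_nil, zero_mul, one_mul, one_zpow, zpow_one,
    Units.val_mk0] at this
  exact this

theorem mf_wc {w c : F} (hw : w ≠ 0) (hc : c ≠ 0) : mf ρ ψ 0 w 0 c = m2 ρ ψ := by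
  have := dW_tor ρ ψ (Units.mk0 w hw) (Units.mk0 c hc)
    [(8, -1, 1, (0 : F)), (9, 1, 0, 1), (10, 3, -1, 0), (11, 0, 1, 1)] (by simp [chiList])
  simp only [List.map_cons, List.map_nil, zero_mul, one_mul, zpow_zero, zpow_one, mul_one,
    Units.val_mk0] at this
  exact this

theorem mf_w {w : F} (hw : w ≠ 0) : mf ρ ψ 0 w 0 0 = m1' ρ ψ := by
  have := dW_tor ρ ψ (Units.mk0 w hw) 1
    [(8, -1, 1, (0 : F)), (9, 1, 0, 1), (10, 3, -1, 0), (11, 0, 1, 0)] (by simp [chiList])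
  simp only [List.map_cons, List.map_nil, zero_mul, one_mul, zpow_zero, zpow_one, mul_one,
    Units.val_mk0] at this
  exact this

theorem mf_long (hψ : ψ.IsPrimitive) (h : (3 : F) = 0) {w1 w2 c : F} (hw : w1 ≠ 0 ∨ w2 ≠ 0)
    (hc : c ≠ 0) (u : F) : mf ρ ψ w1 w2 u c = m2 ρ ψ := by
  rw [mf_shift6 ρ ψ hc]
  by_cases h2 : w2 = 0
  · subst h2
    have h1 : w1 ≠ 0 := hw.resolve_right (not_not.mpr rfl)
    have e := swap_a ρ ψ w1 c
    rw [← sum10 ρ ψ hψ, ← sum10 ρ ψ hψ, Finset.sum_congr rfl fun u _ => mf_shift6 ρ ψ hc w1 0 u,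
      Finset.sum_congr rfl (fun u (_ : u ∈ Finset.univ) => mf_shift6 ρ ψ hc 0 w1 u),
      Finset.sum_const, Finset.sum_const, smul_eq_mul, smul_eq_mul] at e
    rw [Nat.eq_of_mul_eq_mul_left (Finset.card_pos.mpr Finset.univ_nonempty) e, mf_wc ρ ψ h1 hc]
  · rw [mf_shift7 ρ ψ h h2, mf_wc ρ ψ h2 hc]

theorem mf_short (hψ : ψ.IsPrimitive) (h : (3 : F) = 0) {w2 u : F} (hw : w2 ≠ 0) (hu : u ≠ 0)
    (w1 : F) : mf ρ ψ w1 w2 u 0 = m2 ρ ψ := by
  rw [mf_shift7 ρ ψ h hw]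
  have e := swap_b ρ ψ w2 u
  rw [← sum8 ρ ψ hψ h, ← sum8 ρ ψ hψ h, Finset.sum_congr rfl fun w1 _ => mf_shift7 ρ ψ h hw w1 u 0,
    Finset.sum_congr rfl (fun w1 (_ : w1 ∈ Finset.univ) => mf_shift7 ρ ψ h hw w1 0 u),
    Finset.sum_const, Finset.sum_const, smul_eq_mul, smul_eq_mul] at e
  rw [Nat.eq_of_mul_eq_mul_left (Finset.card_pos.mpr Finset.univ_nonempty) e, mf_wc ρ ψ hw hu]

theorem mf_short0 (h : (3 : F) = 0) {w2 : F} (hw : w2 ≠ 0) (w1 : F) :
    mf ρ ψ w1 w2 0 0 = m1' ρ ψ := by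
  rw [mf_shift7 ρ ψ h hw, mf_w ρ ψ hw]

/-- Multiplicities with the sixth root subgroup. -/
noncomputable def sf (γ w1 w2 u : F) : ℕ :=
  dW ρ ψ [(6, γ), (8, w1), (9, w2), (10, u), (11, (0 : F))]

theorem sum6 (hψ : ψ.IsPrimitive) (w1 w2 u : F) :
    ∑ γ : F, sf ρ ψ γ w1 w2 u = mf ρ ψ w1 w2 u 0 :=
  sum_dW ρ ψ hψ 6 fun t v hv => by
    have := quad_map6 ρ ψ t hv
    rwa [mul_zero, sub_zero] at this

theorem sf_shift (h : (3 : F) = 0) (t γ w1 u : F) :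
    sf ρ ψ γ w1 0 u = sf ρ ψ (γ + w1 * t - u * t ^ 3) w1 0 u := by
  have hmap : ∀ (t γ : F) {v : V}, v ∈ W ρ ψ [(6, γ), (8, w1), (9, (0 : F)), (10, u), (11, 0)] →
      ρ (xg 7 t) v ∈ W ρ ψ [(6, γ + w1 * t - u * t ^ 3), (8, w1), (9, (0 : F)), (10, u), (11, 0)] := by
    intro t γ v hv
    refine (mem_W_cons ρ ψ).2 ⟨step ρ ψ hv (fun x => [(6, γ, x), (8, w1, t * x),
      (9, 0, t ^ 2 * x), (10, u, -(t ^ 3 * x)), (11, 0, -(t ^ 3 * x ^ 2))]) (fun x => swap76 t x)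
      (fun x p hp => by
        simp only [List.mem_cons, List.not_mem_nil, or_false] at hp ⊢
        rcases hp with rfl | rfl | rfl | rfl | rfl <;> simp)
      (fun x => by simp; ring), ?_⟩
    have := quad_map7 ρ ψ h t (w1 := w1) (w2 := 0) (u := u) (c := 0) ((mem_W_cons ρ ψ).1 hv).2
    rwa [mul_zero, sub_zero] at this
  refine dW_shift ρ ψ (r := 7) (t := t) (fun v hv => hmap t γ hv) fun v hv => ?_
  have := hmap (-t) _ hv
  rwa [show γ + w1 * t - u * t ^ 3 + w1 * -t - u * (-t) ^ 3 = γ by ring] at this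

theorem sf_weyl (a b c e : F) : sf ρ ψ a c (-e) (-b) = sf ρ ψ b e c a := by
  have := dW_weyl ρ ψ 0 [(6, 10, 1, a), (10, 6, -1, b), (8, 9, 1, c), (9, 8, -1, e),
    (11, 11, 1, (0 : F))] (by simp [weylList])
  simp only [List.map_cons, List.map_nil, Int.cast_one, Int.cast_neg, mul_one, mul_neg] at this
  refine Eq.trans ?_ (this.trans ?_) <;>
    exact dW_congr ρ ψ fun p => by simp only [List.mem_cons, List.not_mem_nil, or_false]; tauto

theorem sf_tor (l d : Fˣ) (γ w1 u : F) :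
    sf ρ ψ (γ * ((l ^ (-3 : ℤ) * d ^ (2 : ℤ) : Fˣ) : F)) (w1 * ((l ^ (-1 : ℤ) * d : Fˣ) : F)) 0
      (u * ((l ^ (3 : ℤ) * d⁻¹ : Fˣ) : F)) = sf ρ ψ γ w1 0 u := by
  have := dW_tor ρ ψ l d [(6, -3, 2, γ), (8, -1, 1, w1), (9, 1, 0, (0 : F)), (10, 3, -1, u),
    (11, 0, 1, 0)] (by simp [chiList])
  simp only [List.map_cons, List.map_nil, zero_mul, zpow_one] at this
  simpa [sf] using this

/-- The multiplicity of the characters of the long roots. -/
noncomputable def l0 : ℕ := sf ρ ψ 0 0 0 1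

/-- The multiplicity of the characters of the short roots. -/
noncomputable def e0 : ℕ := sf ρ ψ 0 1 0 0

theorem sf_u (h : (3 : F) = 0) {u : F} (hu : u ≠ 0) (γ : F) : sf ρ ψ γ 0 0 u = l0 ρ ψ := by
  haveI : CharP F 3 := (CharP.charP_iff_prime_eq_zero Nat.prime_three).mpr (by exact_mod_cast h)
  haveI := Fact.mk Nat.prime_three
  have hb := (Finite.injective_iff_surjective (f := frobenius F 3)).mp (frobenius_inj F 3)
  obtain ⟨t, ht⟩ := hb (γ / u)
  have ht' : t ^ 3 = γ / u := by rw [← ht]; rfl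
  rw [sf_shift ρ ψ h t γ 0 u, zero_mul, add_zero, ht', mul_div_cancel₀ γ hu, sub_self]
  have := sf_tor ρ ψ 1 (Units.mk0 u hu)⁻¹ 0 0 1
  simpa [l0] using this

theorem sf_g (h : (3 : F) = 0) {γ : F} (hγ : γ ≠ 0) : sf ρ ψ γ 0 0 0 = l0 ρ ψ := by
  have := sf_weyl ρ ψ γ 0 0 0
  rw [neg_zero] at this
  rw [this, sf_u ρ ψ h hγ]

theorem sf_w (h : (3 : F) = 0) {w : F} (hw : w ≠ 0) (γ : F) : sf ρ ψ γ w 0 0 = e0 ρ ψ := by
  rw [sf_shift ρ ψ h (-(γ / w)) γ w 0, zero_mul, sub_zero, mul_neg, mul_div_cancel₀ γ hw,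
    add_neg_cancel]
  have := sf_tor ρ ψ 1 (Units.mk0 w hw) 0 1 0
  simpa [e0] using this

end CfsgLib.G2MinDeg
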